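import Cfsg.Agent.Omega.KL.Q.DefG
import Cfsg.Agent.Omega.KL.Q.OddG
import Cfsg.Agent.Omega.KL.NoFam

/-!
# THEOREM KLQ (#22723 (Gq)): the input `PreG` is impossible (helper461)

* `PreG.geo`;
* `PreG.exists_sysT` : `PreG` gives `SysT` for a section of `(C, M)`;
* **`noPreG`** : `MLK` and `Ext` give `NoPreG`.
-/

set_option autoImplicit false

namespace Cfsg.Agent.Omega.KL.Q.EndG

open Subgroup Cfsg Cfsg.Agent.ZN Cfsg.Agent.ClassTwoFusion.Quad Cfsg.Agent.Omega.ML.MinFrame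
open Cfsg.Agent.Omega.ML.Final
open Cfsg.Agent.Omega.KL.Q.Def (nrm mem_nrm)
open Cfsg.Agent.Omega.KL.Q.DefG (PreG NoPreG)
open Cfsg.Agent.Omega.KL.Q.Tools Cfsg.Agent.Omega.KL.Q.Pre Cfsg.Agent.Omega.KL.Q.OddG
open Cfsg.Agent.Omega.NO3S.EMany.Low (LB)
open Cfsg.Agent.Omega.ML.Ex.Two (SysT Ext)
open Cfsg.Agent.MinSimple.VModule (o2_isPGroup o2_le le_o2 le_normalizer_o2 o2_le_of_sylow)

universe u v

/-- `A ≤ O₂(Stab m)` if `A ≤ O₂(R)`, `A` fixes `m` and `Stab m ≤ R` -/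
theorem le_o2_stab {H : Type u} [Group H] {M : Type v} [Group M] [MulDistribMulAction H M] {A R : Subgroup H} {m : M}
    (hA : A ≤ o2 R) (hm : A ≤ MulAction.stabilizer H m) (hR : MulAction.stabilizer H m ≤ R) :
    A ≤ o2 (MulAction.stabilizer H m) := by
  have h2 : o2 R ⊓ MulAction.stabilizer H m ≤ o2 (MulAction.stabilizer H m) := by
    refine le_o2 inf_le_right ((o2_isPGroup _).to_le inf_le_left) ?_
    intro g hg
    have h3 := le_normalizer_o2 _ (hR hg)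
    rw [mem_normalizer_iff] at h3 ⊢
    intro k
    constructor
    · rintro ⟨hk1, hk2⟩
      exact ⟨(h3 k).1 hk1, Subgroup.mul_mem _ (Subgroup.mul_mem _ hg hk2) (Subgroup.inv_mem _ hg)⟩
    · rintro ⟨hk1, hk2⟩
      refine ⟨(h3 k).2 hk1, ?_⟩
      have := Subgroup.mul_mem _ (Subgroup.mul_mem _ (Subgroup.inv_mem _ hg) hk2) hg
      have e : g⁻¹ * (g * k * g⁻¹) * g = k := by group
      rwa [e] at this
  exact (le_inf hA hm).trans h2

/-- `O₂(R) ∩ H ≤ O₂(H)` for `H ≤ R` -/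
theorem o2_inf_le {X : Type u} [Group X] {H R : Subgroup X} (hHR : H ≤ R) : o2 R ⊓ H ≤ o2 H :=
  KL.GenTool.o2_inf_le le_rfl (fun _ hg _ hx => H.mul_mem (H.mul_mem hg hx) (H.inv_mem hg)) hHR

/-- **the restriction of an exact atom to a minimal `H` with `F ≰ O₂(H)`** -/
theorem lb_of_min {X : Type u} [Group X] [Finite X] {M : Type v} [Group M] [MulDistribMulAction X M] {T F H : Subgroup X}
    (sq : ∀ m : M, m * m = 1) (two : IsPGroup 2 T) (syl : ¬ 2 ∣ T.index) (hFT : F ≤ T)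
    (el : ∀ a ∈ F, a * a = 1) (exact' : (cv M (F : Set X)).index = Nat.card F)
    (atom : ∀ C : Subgroup X, C ≤ F → C ≠ ⊥ → C ≠ F → Nat.card C < (cv M (C : Set X)).index)
    (KH : IsKGroup X) (hTH : T ≤ H) (hFH : ¬ F ≤ o2 H)
    (hmin : ∀ R : Subgroup X, (T ≤ R ∧ ¬ F ≤ o2 R) → R ≤ H → R = H) :
    LB H M (T.subgroupOf H) (F.subgroupOf H) := by
  have hFH' : F ≤ H := hFT.trans hTH
  have e1 : ∀ {C : Subgroup X}, C ≤ H → (C.subgroupOf H).map H.subtype = C := fun {C} hC => by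
    rw [subgroupOf_map_subtype, inf_eq_left.2 hC]
  have hcv : ∀ C : Subgroup H, cv M (C : Set H) = cv M ((C.map H.subtype : Subgroup X) : Set X) := by
    intro C
    ext m
    constructor
    · rintro hm _ ⟨c, hc, rfl⟩
      exact hm c hc
    · exact fun hm c hc => hm _ ⟨c, hc, rfl⟩
  have hcard : ∀ C : Subgroup H, Nat.card (C.map H.subtype) = Nat.card C := fun C =>
    card_map_of_injective H.subtype_injective
  refine ⟨sq, two.comap_subtype, fun h2 => ?_, fun x hx => hFT hx, fun b hb => Subtype.ext (el b hb), ?_, ?_, ?_, ?_,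
    sec_KG.sub X KH H⟩
  · exact syl (h2.trans (relIndex_dvd_index_of_le hTH))
  · rw [hcv, e1 hFH', exact', ← hcard, e1 hFH']
  · intro C hC hC1 hCF
    rw [hcv, ← hcard]
    refine atom _ ?_ ?_ ?_
    · rintro _ ⟨c, hc, rfl⟩
      exact hC hc
    · intro h1
      exact hC1 ((Subgroup.map_eq_bot_iff_of_injective _ H.subtype_injective).1 h1)
    · intro h1
      apply hCF
      rw [← h1]
      exact (comap_map_eq_self_of_injective H.subtype_injective C).symm
  · intro R hTR hR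
    have h1 : R.map H.subtype ≠ H := by
      intro h2
      apply hR
      rw [eq_top_iff]
      intro r _
      have h3 : (r : X) ∈ R.map H.subtype := by
        rw [h2]
        exact r.2
      obtain ⟨s, hs, hsr⟩ := h3
      rwa [← (Subtype.ext hsr : s = r)]
    have h2 : T ≤ R.map H.subtype := fun t ht => ⟨⟨t, hTH ht⟩, hTR ht, rfl⟩
    have h3 : F ≤ o2 (R.map H.subtype) := by
      by_contra hc
      exact h1 (hmin _ ⟨h2, hc⟩ (map_subtype_le R))
    exact fun x hx => KL.GenTool.o2_subgroupOf_le R (h3 hx)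
  · intro hc
    apply hFH
    have h1 := (map_mono (f := H.subtype) hc).trans (KL.GenTool.o2_map_le H.subtype ⊤)
    rw [e1 hFH', ← MonoidHom.range_eq_map, H.range_subtype] at h1
    exact h1

section

variable {C : Type u} [Group C] {M : Type v} [Group M] [MulDistribMulAction C M] {T A : Subgroup C} {X Y : Subgroup M}

theorem geo (h : PreG T A X Y) : Geo T X Y where
  sq := h.sq
  two := h.two
  syl := h.syl
  Y1 := by
    intro h1
    have h2 := h.Y4
    rw [h1, card_bot] at h2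
    omega
  nX := h.nX
  nY := h.nY
  tY := h.tY
  sX := h.sX
  sY := h.sY
  u1 := h.u1
  u2 := fun P hP hPX => by
    obtain ⟨-, V, h1, h2, -, h3⟩ := h.u2 P hP hPX
    exact ⟨V, h1, h2, h3⟩
  ex := h.ex
  pair := h.pair

variable [Finite C] [Finite M]

/-- **`PreG` gives `SysT`** -/
theorem exists_sysT (hML : MLK.{u, v}) (h : PreG T A X Y) :
    ∃ (H' : Type u) (_ : Group H') (_ : Finite H') (N : Type v) (_ : Group N) (_ : Finite N)
      (_ : MulDistribMulAction H' N) (T' A' : Subgroup H') (x' y' : N), SysT H' N T' A' x' y' := by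
  have htriv : ∀ k ∈ fxr C (⊤ : Subgroup M), ∀ m : M, k • m = m := fun k hk m => hk m (mem_top m)
  have hN : (fxr C (⊤ : Subgroup M)).Normal := fxr_normal fun _ _ _ => mem_top _
  set N := fxr C (⊤ : Subgroup M) with hNdef
  let _ : MulDistribMulAction (C ⧸ N) M := quoAct N htriv
  let π : C →* C ⧸ N := QuotientGroup.mk' N
  have hπ : Function.Surjective π := QuotientGroup.mk'_surjective N
  have he : ∀ (g : C) (v : M), π g • v = g • v := fun _ _ => rfl
  have hker2 : ∀ k : C, π k = 1 → ∀ v : M, k • v = v := fun k hk v =>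
    (QuotientGroup.eq_one_iff k).1 hk v (mem_top v)
  have g := (geo h).map hπ he
  have hfaith : ∀ g : C ⧸ N, (∀ m : M, g • m = m) → g = 1 := by
    intro g hg
    obtain ⟨c, rfl⟩ := hπ g
    exact (QuotientGroup.eq_one_iff c).2 fun v _ => hg v
  have hKH : IsKGroup (C ⧸ N) := ML.Final.sec_KG.quo C h.KC N
  have ho2 : ∀ S : Subgroup C, A ≤ o2 S → A.map π ≤ o2 (S.map π) := fun S hS =>
    (map_mono hS).trans (le_o2 (map_mono (o2_le _)) ((o2_isPGroup _).map π)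
      ((map_mono (le_normalizer_o2 _)).trans (le_normalizer_map π)))
  have hx : A.map π ≤ o2 (nrm (C ⧸ N) X) := by
    rw [← nrm_map hπ he]
    exact ho2 _ h.Ax
  have hy : A.map π ≤ o2 (nrm (C ⧸ N) Y) := by
    rw [← nrm_map hπ he]
    exact ho2 _ h.Ay
  have hel : ∀ a ∈ A.map π, a * a = 1 := by
    rintro _ ⟨a, ha, rfl⟩
    rw [← map_mul, h.el a ha, map_one]
  have hAT : A.map π ≤ T.map π :=
    hx.trans (o2_le_of_sylow g.two fun h2 => g.syl (h2.trans (relIndex_dvd_index_of_le (le_normalizer.trans g.nX))))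
  obtain ⟨x, hxX, hx1, tx⟩ := g.ex
  have tY : ∀ v ∈ Y, ∀ t ∈ T.map π, t • v = v := fun v hv t ht => g.tY ht v hv
  have hAx : A.map π ≤ o2 (MulAction.stabilizer (C ⧸ N) x) :=
    le_o2_stab hx (fun a ha => MulAction.mem_stabilizer_iff.2 (tx a (hAT ha))) (g.sX x hxX hx1)
  have hAy : ∀ y ∈ Y, y ≠ 1 → A.map π ≤ o2 (MulAction.stabilizer (C ⧸ N) y) := fun y hyY hy1 =>
    le_o2_stab hy (fun a ha => MulAction.mem_stabilizer_iff.2 (tY y hyY a (hAT ha))) (g.sY y hyY hy1)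
  -- `M = ⟨x^C⟩⟨Y^C⟩`
  have hgen : orb (⊤ : Subgroup (C ⧸ N)) x ⊔ (⨆ y : Y, orb (⊤ : Subgroup (C ⧸ N)) (y : M)) = ⊤ := by
    refine h.gen x hxX hx1 (fun t ht => by rw [← he]; exact tx _ (mem_map_of_mem π ht)) _
      (le_sup_left (a := orb (⊤ : Subgroup (C ⧸ N)) x) (mem_orb_self _ x)) ?_ ?_
    · intro v hv
      exact mem_sup_right (le_iSup (fun y : Y => orb (⊤ : Subgroup (C ⧸ N)) (y : M)) ⟨v, hv⟩ (mem_orb_self _ v))
    · intro c u hu
      have h1 : orb (⊤ : Subgroup (C ⧸ N)) x ⊔ (⨆ y : Y, orb (⊤ : Subgroup (C ⧸ N)) (y : M)) ≤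
          (orb (⊤ : Subgroup (C ⧸ N)) x ⊔ (⨆ y : Y, orb (⊤ : Subgroup (C ⧸ N)) (y : M))).comap
            (MulDistribMulAction.toMonoidHom M c) := by
        refine sup_le ?_ (iSup_le fun y => ?_)
        · intro w hw
          exact mem_sup_left (smul_mem_orb (g := π c) (mem_top _) hw)
        · intro w hw
          exact mem_sup_right (le_iSup (fun y : Y => orb (⊤ : Subgroup (C ⧸ N)) (y : M)) y
            (smul_mem_orb (g := π c) (mem_top _) hw))
      exact h1 hu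
  -- (NO)
  have hfx : fxr (C ⧸ N) (⊤ : Subgroup M) = ⊥ := by
    rw [Subgroup.eq_bot_iff_forall]
    exact fun g hg => hfaith g fun m => hg m (mem_top m)
  have hno : ∀ B : Subgroup (C ⧸ N), B ≤ A.map π → Nat.card B ≤ (cv M (B : Set (C ⧸ N))).index := by
    intro B hB
    have key := NoFam.no_X_Y hML hKH g.sq g.two g.syl hgen tx g.tY (fun b hb => hel b (hB hb)) (hB.trans hAx)
      fun y hyY hy1 => hB.trans (hAy y hyY hy1)
    rwa [hfx, relIndex_bot_left] at key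
  -- `A` is exact
  have hcv : cv M (A.map π : Set (C ⧸ N)) = cv M (A : Set C) := by
    ext v
    constructor
    · exact fun hv a ha => hv _ ⟨a, ha, rfl⟩
    · rintro hv _ ⟨a, ha, rfl⟩
      exact hv a ha
  have hcard : Nat.card (A.map π) = N.relIndex A := by
    rw [← relIndex_bot_left, ← relIndex_comap, MonoidHom.comap_bot, QuotientGroup.ker_mk']
  have hex : (cv M (A.map π : Set (C ⧸ N))).index = Nat.card (A.map π) := by
    refine le_antisymm ?_ (hno _ le_rfl)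
    rw [hcv, hcard]
    exact h.le
  have hA1 : A.map π ≠ ⊥ := by
    intro h1
    obtain ⟨a, ha, m, ham⟩ := h.mv
    apply ham
    refine hker2 a ?_ m
    rw [← mem_bot, ← h1]
    exact ⟨a, ha, rfl⟩
  -- an atom
  obtain ⟨B, ⟨hBA, hB1, hBe⟩, hmin⟩ : ∃ B : Subgroup (C ⧸ N), (B ≤ A.map π ∧ B ≠ ⊥ ∧
      (cv M (B : Set (C ⧸ N))).index = Nat.card B) ∧ ∀ B' : Subgroup (C ⧸ N), (B' ≤ A.map π ∧ B' ≠ ⊥ ∧
      (cv M (B' : Set (C ⧸ N))).index = Nat.card B') → B' ≤ B → B' = B := by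
    obtain ⟨B, hB⟩ := (Set.toFinite {B : Subgroup (C ⧸ N) | B ≤ A.map π ∧ B ≠ ⊥ ∧
      (cv M (B : Set (C ⧸ N))).index = Nat.card B}).exists_minimal ⟨A.map π, le_rfl, hA1, hex⟩
    exact ⟨B, hB.prop, fun B' hB' hle => le_antisymm hle (hB.le_of_le hB' hle)⟩
  have hatom : ∀ B' : Subgroup (C ⧸ N), B' ≤ B → B' ≠ ⊥ → B' ≠ B →
      Nat.card B' < (cv M (B' : Set (C ⧸ N))).index := by
    intro B' hB' hB1' hne
    refine lt_of_le_of_ne (hno B' (hB'.trans hBA)) fun h1 => hne ?_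
    exact hmin B' ⟨hB'.trans hBA, hB1', h1.symm⟩ hB'
  -- `B ≰ O₂(C)`
  have hnT : ¬ B ≤ o2 (⊤ : Subgroup (C ⧸ N)) := by
    intro hc
    apply hB1
    rw [eq_bot_iff]
    intro b hb
    refine mem_bot.2 (hfaith b fun m => ?_)
    have h1 : (⊤ : Subgroup M) ≤ cv M ({b} : Set (C ⧸ N)) := by
      rw [← hgen]
      refine sup_le ?_ (iSup_le fun y => ?_)
      · exact fun m hm => mem_cv_singleton.2 (Gen.o2_top_le g.two g.syl tx (hc hb) m hm)
      · exact fun m hm => mem_cv_singleton.2 (Gen.o2_top_le g.two g.syl (tY y y.2) (hc hb) m hm)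
    exact mem_cv_singleton.1 (h1 (mem_top m))
  -- `H` minimal
  obtain ⟨H, ⟨hTH, hFH⟩, hminH⟩ : ∃ H : Subgroup (C ⧸ N), (T.map π ≤ H ∧ ¬ B ≤ o2 H) ∧
      ∀ R : Subgroup (C ⧸ N), (T.map π ≤ R ∧ ¬ B ≤ o2 R) → R ≤ H → R = H := by
    have hfin : {H : Subgroup (C ⧸ N) | T.map π ≤ H ∧ ¬ B ≤ o2 H}.Finite := Set.toFinite _
    obtain ⟨K, hK⟩ := hfin.exists_minimal ⟨⊤, le_top, hnT⟩
    exact ⟨K, hK.1, fun D hD hDK => le_antisymm hDK (hK.2 hD hDK)⟩
  have hBT := hBA.trans hAT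
  have lb := lb_of_min g.sq g.two g.syl hBT (fun a ha => hel a (hBA ha)) hBe hatom hKH hTH hFH hminH
  have hBH : B ≤ H := hBT.trans hTH
  refine (g.sub hTH).exists_sysT lb hML ?_ ?_
  · intro hc
    apply hFH
    have h1 : H ≤ nrm (C ⧸ N) X := fun g hg => hc (mem_top (⟨g, hg⟩ : H))
    exact (le_inf (hBA.trans hx) hBH).trans (o2_inf_le h1)
  · intro v hv hv1 hc
    apply hFH
    have h1 : H ≤ nrm (C ⧸ N) Y := fun g' hg => g.sY v hv hv1 (MulAction.mem_stabilizer_iff.2 (hc ⟨g', hg⟩))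
    exact (le_inf (hBA.trans hy) hBH).trans (o2_inf_le h1)

end

/-- **THEOREM KLQ** -/
theorem noPreG (hML : MLK.{u, v}) (hE : Ext.{u, v}) : NoPreG.{u, v} := by
  intro C _ _ M _ _ _ T A X Y h
  obtain ⟨H, _, _, N, _, _, _, T', A', x', y', hs⟩ := exists_sysT hML h
  exact hE H N T' A' x' y' hs

end Cfsg.Agent.Omega.KL.Q.EndG
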