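import Cfsg.Agent.Omega.KL.Q.Def

/-!
# THEOREM KLQ, the input (Gq) (helper381 #22723; helper49 #23432, helper176 #23681)

`C` acts on the elementary abelian 2-group `M`, `T` a Sylow 2-subgroup of `C`, `X`, `Y` subgroups of `M`, `A ≤ C` elementary
abelian, exact on `M`. No LEMMA FIX on `M`; valid at every level, for `k = 2` (`C = C_G(Z₁)`, `M = N₁/Z₁`, `X = Z₂~`,
`Y = V₁/Z₁`) and for `k ≥ 3` (`C = Y_j`).

* `PreG T A X Y` : **the input**; `NoPreG` : it does not occur;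
* `PreG.gen_orb` : if `M = ⟨m^C⟩`.
-/

set_option autoImplicit false

namespace Cfsg.Agent.Omega.KL.Q.DefG

open Subgroup Cfsg Cfsg.Agent.ZN Cfsg.Agent.ClassTwoFusion.Quad Cfsg.Agent.Omega.ML.MinFrame
open Cfsg.Agent.Omega.KL.Q.Def (nrm mem_nrm)
open Cfsg.Agent.MinSimple.MinParabolic (IsMinPar)

universe u v

/-- **THE INPUT (Gq)** (`C` need not be faithful on `M`, `A` is exact, not necessarily an atom) -/
structure PreG {C : Type u} [Group C] {M : Type v} [Group M] [MulDistribMulAction C M] (T A : Subgroup C)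
    (X Y : Subgroup M) : Prop where
  sq : ∀ m : M, m * m = 1
  two : IsPGroup 2 T
  syl : ¬ 2 ∣ T.index
  Y4 : 4 ≤ Nat.card Y
  XY : X ⊓ Y = ⊥
  /-- `N_C(T)` normalises `X` and `Y` -/
  nX : normalizer (T : Set C) ≤ nrm C X
  nY : normalizer (T : Set C) ≤ nrm C Y
  /-- `T` centralises `Y` -/
  tY : T ≤ fxr C Y
  /-- (TI) -/
  sX : ∀ m ∈ X, m ≠ 1 → MulAction.stabilizer C m ≤ nrm C X
  sY : ∀ v ∈ Y, v ≠ 1 → MulAction.stabilizer C v ≤ nrm C Y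
  /-- (U1) -/
  u1 : ∀ P : Subgroup C, IsMinPar T P → ∀ m ∈ X, (∀ t ∈ T, t • m = m) → (∃ p ∈ P, p • m ≠ m) → P ≤ fxr C Y
  /-- (U2) -/
  u2 : ∀ P : Subgroup C, IsMinPar T P → ¬ P ≤ nrm C X → P ≤ fxr C Y ∧ ∃ V : Subgroup M, X ≤ V ∧ P ≤ nrm C V ∧
    V ⊓ Y = ⊥ ∧ ∀ v ∈ V, ∀ w ∈ V, v ≠ 1 → w ≠ 1 → ∃ p ∈ P, p • v = w
  /-- `C_X(T) ≠ 1` -/
  ex : ∃ m ∈ X, m ≠ 1 ∧ ∀ t ∈ T, t • m = m
  /-- `M = ⟨m^C⟩⟨Y^C⟩` -/
  gen : ∀ m ∈ X, m ≠ 1 → (∀ t ∈ T, t • m = m) → ∀ U : Subgroup M, m ∈ U → Y ≤ U →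
    (∀ c : C, ∀ u ∈ U, c • u ∈ U) → U = ⊤
  /-- the pairing: `[ζ, T]` centralises `O`, so the preimage of `⟨O⟩ ≥ Y` -/
  pair : ∀ ζ ∈ normalizer (T : Set C), ∀ O : Set M, (∀ w ∈ O, ∃ g : C, ∃ m ∈ X, g • m = w) → Y ≤ closure O →
    (∀ t ∈ T, ∀ w ∈ O, (ζ * t * ζ⁻¹ * t⁻¹) • w = w) → ζ ∈ fxr C Y
  el : ∀ a ∈ A, a * a = 1
  Ax : A ≤ o2 (nrm C X)
  Ay : A ≤ o2 (nrm C Y)
  mv : ∃ a ∈ A, ∃ m : M, a • m ≠ m
  le : (cv M (A : Set C)).index ≤ (fxr C (⊤ : Subgroup M)).relIndex A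
  KC : IsKGroup C

/-- the conclusion of THEOREM KLQ -/
def NoPreG : Prop :=
  ∀ (C : Type u) [Group C] [Finite C] (M : Type v) [Group M] [Finite M] [MulDistribMulAction C M]
    (T A : Subgroup C) (X Y : Subgroup M), ¬ PreG T A X Y

/-- `gen` if `M = ⟨m^C⟩` -/
theorem gen_of_orb {C : Type u} [Group C] {M : Type v} [Group M] [MulDistribMulAction C M] {m : M}
    (h : orb (⊤ : Subgroup C) m = ⊤) {U : Subgroup M} (hm : m ∈ U) (hU : ∀ c : C, ∀ u ∈ U, c • u ∈ U) : U = ⊤ := by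
  rw [eq_top_iff, ← h]
  exact orb_le fun g _ => hU g m hm

end Cfsg.Agent.Omega.KL.Q.DefG
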