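import Cfsg.Agent.Omega.KL.PlugG
import Cfsg.Agent.Omega.KL.Q.DefG

/-!
# THEOREM KLQ without FIX: the plug at group level (helper176; rows (7) and (8))

`GInQ T C N Z X Y A` : `C` acts on `M := N / Z` (`N` elementary abelian, `Z ≤ X, Y ≤ N`, `Z` centralised by `C`), `T` a
Sylow 2-subgroup of `C`.

* **`GInQ.pre`** : `DefG.PreG` for `C` acting on `N / Z`.
-/

set_option autoImplicit false
set_option maxHeartbeats 400000

namespace Cfsg.Agent.Omega.KL.Q.PlugGG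

open Subgroup Cfsg Cfsg.Agent.ZN
open Cfsg.Agent.ClassTwoFusion.Quad Cfsg.Agent.Omega.ML.MinFrame
open Cfsg.Agent.MinSimple.MinParabolic (IsMinPar)
open Cfsg.Agent.MinSimple.VModule (o2_isPGroup o2_le le_o2 le_normalizer_o2 o2_le_of_sylow)
open Cfsg.Agent.Omega.KL.PlugG (comm_of_sq minPar_map sub_o2)
open Cfsg.Agent.Omega.KL.Q.Def (nrm mem_nrm)

universe u

variable {G : Type u} [Group G]

/-- **The input `(Gq)` at group level** -/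
structure GInQ (T C N Z X Y A : Subgroup G) : Prop where
  TC : T ≤ C
  two : IsPGroup 2 T
  syl : ¬ 2 ∣ T.relIndex C
  sq : ∀ n ∈ N, n * n = 1
  CN : C ≤ normalizer (N : Set G)
  CZ : ∀ c ∈ C, ∀ z ∈ Z, c * z = z * c
  ZX : Z ≤ X
  ZY : Z ≤ Y
  XN : X ≤ N
  YN : Y ≤ N
  Y4 : 4 ≤ Z.relIndex Y
  XY : X ⊓ Y ≤ Z
  nX : C ⊓ normalizer (T : Set G) ≤ normalizer (X : Set G)
  nY : C ⊓ normalizer (T : Set G) ≤ normalizer (Y : Set G)
  tY : ∀ t ∈ T, ∀ w ∈ Y, t * w * t⁻¹ * w⁻¹ ∈ Z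
  sX : ∀ m ∈ X, m ∉ Z → ∀ c ∈ C, c * m * c⁻¹ * m⁻¹ ∈ Z → c ∈ normalizer (X : Set G)
  sY : ∀ v ∈ Y, v ∉ Z → ∀ c ∈ C, c * v * c⁻¹ * v⁻¹ ∈ Z → c ∈ normalizer (Y : Set G)
  u1 : ∀ P : Subgroup G, IsMinPar T P → P ≤ C → ∀ m ∈ X, (∀ t ∈ T, t * m * t⁻¹ * m⁻¹ ∈ Z) →
    (∃ p ∈ P, p * m * p⁻¹ * m⁻¹ ∉ Z) → ∀ p ∈ P, ∀ w ∈ Y, p * w * p⁻¹ * w⁻¹ ∈ Z
  u2 : ∀ P : Subgroup G, IsMinPar T P → P ≤ C → ¬ P ≤ normalizer (X : Set G) →
    (∀ p ∈ P, ∀ w ∈ Y, p * w * p⁻¹ * w⁻¹ ∈ Z) ∧ ∃ V : Subgroup G, X ≤ V ∧ V ≤ N ∧ P ≤ normalizer (V : Set G) ∧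
      V ⊓ Y ≤ Z ∧ ∀ v ∈ V, ∀ w ∈ V, v ∉ Z → w ∉ Z → ∃ p ∈ P, p * v * p⁻¹ * w⁻¹ ∈ Z
  ex : ∃ m ∈ X, m ∉ Z ∧ ∀ t ∈ T, t * m * t⁻¹ * m⁻¹ ∈ Z
  gen : ∀ m ∈ X, m ∉ Z → (∀ t ∈ T, t * m * t⁻¹ * m⁻¹ ∈ Z) → ∀ U : Subgroup G, m ∈ U → Y ≤ U →
    C ≤ normalizer (U : Set G) → N ≤ U
  pair : ∀ ζ ∈ C, ζ ∈ normalizer (T : Set G) → ∀ O : Set G, (∀ w ∈ O, ∃ g ∈ C, ∃ m ∈ X, g * m * g⁻¹ = w) →
    Y ≤ closure O ⊔ Z →
    (∀ t ∈ T, ∀ w ∈ O, (ζ * t * ζ⁻¹ * t⁻¹) * w * (ζ * t * ζ⁻¹ * t⁻¹)⁻¹ * w⁻¹ ∈ Z) →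
    ∀ w ∈ Y, ζ * w * ζ⁻¹ * w⁻¹ ∈ Z
  el : ∀ a ∈ A, a * a = 1
  Ax : A ≤ o2 (C ⊓ normalizer (X : Set G))
  Ay : A ≤ o2 (C ⊓ normalizer (Y : Set G))
  mv : ¬ A ≤ centralizer (N : Set G)
  kerA : ∀ a ∈ A, (∀ n ∈ N, a * n * a⁻¹ * n⁻¹ ∈ Z) → a ∈ centralizer (N : Set G)
  exact : (centralizer (A : Set G)).relIndex N ≤ (centralizer (N : Set G)).relIndex A
  KC : IsKGroup C

theorem mem_nor_of {X : Subgroup G} {C : Subgroup G} (h : ∀ c ∈ C, ∀ x ∈ X, c * x * c⁻¹ ∈ X) :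
    C ≤ normalizer (X : Set G) := by
  intro c hc
  rw [mem_normalizer_iff]
  intro x
  refine ⟨h c hc x, fun hx => ?_⟩
  have h1 := h c⁻¹ (inv_mem hc) _ hx
  have e : c⁻¹ * (c * x * c⁻¹) * c⁻¹⁻¹ = x := by group
  rwa [e] at h1

namespace GInQ

variable [Finite G] {T C N Z X Y A : Subgroup G} (h : GInQ T C N Z X Y A)
include h

/-- **the input of THEOREM KLQ** -/
theorem pre : ∃ (M : Type u) (_ : Group M) (_ : Finite M) (_ : MulDistribMulAction C M) (X' Y' : Subgroup M),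
    DefG.PreG (T.subgroupOf C) (A.subgroupOf C) X' Y' := by
  have hZN : Z ≤ N := h.ZX.trans h.XN
  have hCZc : ∀ c ∈ C, ∀ z ∈ Z, c * z * c⁻¹ = z := by
    intro c hc z hz
    rw [h.CZ c hc z hz, mul_inv_cancel_right]
  have hCZ : C ≤ normalizer (Z : Set G) := mem_nor_of fun c hc z hz => by rw [hCZc c hc z hz]; exact hz
  have hcN : ∀ a ∈ N, ∀ b ∈ N, a * b = b * a := fun a ha b hb => comm_of_sq h.sq ha hb
  have hnor : (Z.subgroupOf N).Normal := by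
    refine normal_subgroupOf_of_le_normalizer (mem_nor_of fun n hn z hz => ?_)
    rwa [hcN n hn z (hZN hz), mul_inv_cancel_right]
  let _ := ML.Final.conjAct h.CN hCZ
  let mk : N →* N ⧸ Z.subgroupOf N := QuotientGroup.mk' (Z.subgroupOf N)
  have hmk : Function.Surjective mk := QuotientGroup.mk'_surjective _
  have hmem : ∀ (g : C) (n : N), (g : G) * n * (g : G)⁻¹ ∈ N := fun g n =>
    (mem_normalizer_iff.1 (h.CN g.2) n).1 n.2
  have hsm : ∀ (g : C) (n : N), g • mk n = mk ⟨(g : G) * n * (g : G)⁻¹, hmem g n⟩ := fun _ _ => rfl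
  have hone : ∀ a b : N, mk a = mk b ↔ (a : G) * (b : G)⁻¹ ∈ Z := by
    intro a b
    rw [← mul_inv_eq_one, ← map_inv, ← map_mul, ← MonoidHom.mem_ker, QuotientGroup.ker_mk']
    exact Iff.rfl
  have hone' : ∀ a : N, mk a = 1 ↔ (a : G) ∈ Z := by
    intro a
    rw [← MonoidHom.mem_ker, QuotientGroup.ker_mk']
    exact Iff.rfl
  have hfix : ∀ (g : C) (n : N), g • mk n = mk n ↔ (g : G) * n * (g : G)⁻¹ * (n : G)⁻¹ ∈ Z := by
    intro g n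
    rw [hsm, hone]
  -- subgroups over `Z`
  have hsub : ∀ {W : Subgroup G}, Z ≤ W → ∀ a : N, (mk a ∈ (W.subgroupOf N).map mk ↔ (a : G) ∈ W) := by
    intro W hZW a
    constructor
    · rintro ⟨b, hb, hba⟩
      have h1 := (hone b a).1 hba
      have h2 : (a : G) = ((b : G) * (a : G)⁻¹)⁻¹ * b := by group
      rw [h2]
      exact mul_mem (inv_mem (hZW h1)) (mem_subgroupOf.1 hb)
    · intro ha
      exact ⟨a, mem_subgroupOf.2 ha, rfl⟩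
  have hnrm : ∀ {W : Subgroup G}, Z ≤ W → W ≤ N → ∀ c : C,
      (c ∈ nrm C ((W.subgroupOf N).map mk) ↔ (c : G) ∈ C ⊓ normalizer (W : Set G)) := by
    intro W hZW hWN c
    rw [mem_nrm, mem_inf]
    constructor
    · intro hc
      refine ⟨c.2, ?_⟩
      rw [mem_normalizer_iff]
      intro n
      constructor
      · intro hn
        have h1 := (hc (mk ⟨n, hWN hn⟩)).2 ((hsub hZW _).2 hn)
        rw [hsm, hsub hZW] at h1
        exact h1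
      · intro hn
        have hnN : n ∈ N := (mem_normalizer_iff.1 (h.CN c.2) n).2 (hWN hn)
        have h1 := (hc (mk ⟨n, hnN⟩)).1 (by rw [hsm, hsub hZW]; exact hn)
        exact (hsub hZW _).1 h1
    · rintro ⟨-, hc⟩ m
      obtain ⟨n, rfl⟩ := hmk m
      rw [hsm, hsub hZW, hsub hZW]
      exact (mem_normalizer_iff.1 hc n).symm
  have hZV : ∀ {W : Subgroup G}, Z ≤ W → ∀ {c : C}, (c : G) ∈ normalizer (W : Set G) → W ≤ N →
      c ∈ nrm C ((W.subgroupOf N).map mk) := fun hZW _ hc hWN => (hnrm hZW hWN _).2 (mem_inf.2 ⟨SetLike.coe_mem _, hc⟩)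
  set X' : Subgroup (N ⧸ Z.subgroupOf N) := (X.subgroupOf N).map mk with hX'
  set Y' : Subgroup (N ⧸ Z.subgroupOf N) := (Y.subgroupOf N).map mk with hY'
  have hfxY : ∀ c : C, (c ∈ fxr C Y' ↔ ∀ w ∈ Y, (c : G) * w * (c : G)⁻¹ * w⁻¹ ∈ Z) := by
    intro c
    rw [mem_fxr]
    constructor
    · intro hc w hw
      exact (hfix c ⟨w, h.YN hw⟩).1 (hc _ ((hsub h.ZY _).2 hw))
    · rintro hc _ ⟨w, hw, rfl⟩
      exact (hfix c w).2 (hc w (mem_subgroupOf.1 hw))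
  have hcom : ∀ {a b : G}, a * b = b * a → a * b * a⁻¹ * b⁻¹ ∈ Z := by
    intro a b e
    rw [e, mul_inv_cancel_right, mul_inv_cancel]
    exact one_mem _
  have hnT : ∀ g ∈ normalizer (T.subgroupOf C : Set C), (g : G) ∈ C ⊓ normalizer (T : Set G) := by
    intro g hg
    refine mem_inf.2 ⟨g.2, ?_⟩
    rw [mem_normalizer_iff]
    intro t
    constructor
    · intro ht
      exact (mem_normalizer_iff.1 hg ⟨t, h.TC ht⟩).1 ht
    · intro ht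
      have h1 : (g : G)⁻¹ * ((g : G) * t * (g : G)⁻¹) * (g : G)⁻¹⁻¹ ∈ T :=
        (mem_normalizer_iff.1 (inv_mem hg) ⟨(g : G) * t * (g : G)⁻¹, h.TC ht⟩).1 ht
      have e : (g : G)⁻¹ * ((g : G) * t * (g : G)⁻¹) * (g : G)⁻¹⁻¹ = t := by group
      rwa [e] at h1
  have hTfix : ∀ n : N, ((∀ t ∈ T.subgroupOf C, t • mk n = mk n) ↔ ∀ t ∈ T, t * (n : G) * t⁻¹ * (n : G)⁻¹ ∈ Z) := by
    intro n
    constructor
    · intro h1 t ht
      exact (hfix ⟨t, h.TC ht⟩ n).1 (h1 _ (mem_subgroupOf.2 ht))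
    · intro h1 t ht
      exact (hfix t n).2 (h1 t (mem_subgroupOf.1 ht))
  have hsylR : ∀ {R : Subgroup G}, T ≤ R → R ≤ C → ¬ 2 ∣ T.relIndex R := fun {R} h1 h2 h3 =>
    h.syl (h3.trans (Dvd.intro _ (relIndex_mul_relIndex T R C h1 h2)))
  have hTX : T ≤ C ⊓ normalizer (X : Set G) := le_inf h.TC fun t ht =>
    h.nX (mem_inf.2 ⟨h.TC ht, Subgroup.le_normalizer ht⟩)
  have hAT : A ≤ T := h.Ax.trans (o2_le_of_sylow h.two (hsylR hTX inf_le_left))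
  have hAC : A ≤ C := hAT.trans h.TC
  have hfxr : (fxr C (⊤ : Subgroup (N ⧸ Z.subgroupOf N))).relIndex (A.subgroupOf C) =
      (centralizer (N : Set G)).relIndex A := by
    have e : fxr C (⊤ : Subgroup (N ⧸ Z.subgroupOf N)) ⊓ A.subgroupOf C =
        (centralizer (N : Set G)).subgroupOf C ⊓ A.subgroupOf C := by
      ext c
      simp only [mem_inf]
      constructor
      · rintro ⟨h1, h2⟩
        refine ⟨mem_subgroupOf.2 (h.kerA c (mem_subgroupOf.1 h2) fun n hn => ?_), h2⟩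
        exact (hfix c ⟨n, hn⟩).1 (h1 _ (mem_top _))
      · rintro ⟨h1, h2⟩
        refine ⟨fun m _ => ?_, h2⟩
        obtain ⟨n, rfl⟩ := hmk m
        exact (hfix c n).2 (hcom (mem_centralizer_iff.1 (mem_subgroupOf.1 h1) n n.2).symm)
    rw [← inf_relIndex_right, e, inf_relIndex_right, relIndex_subgroupOf hAC]
  have hcvle : (centralizer (A : Set G)).subgroupOf N ≤
      (cv (N ⧸ Z.subgroupOf N) (A.subgroupOf C : Set C)).comap mk := by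
    intro n hn a ha
    refine (hfix a n).2 ?_
    exact hcom (mem_centralizer_iff.1 (mem_subgroupOf.1 hn) a (mem_subgroupOf.1 ha))
  refine ⟨N ⧸ Z.subgroupOf N, inferInstance, inferInstance, inferInstance, X', Y', ?_⟩
  refine DefG.PreG.mk ?_ ?_ h.syl ?_ ?_ ?_ ?_ ?_ ?_ ?_ ?_ ?_ ?_ ?_ ?_ ?_ ?_ ?_ ?_ ?_ h.KC
  · -- sq
    intro m
    obtain ⟨n, rfl⟩ := hmk m
    rw [← map_mul, hone']
    have h1 : (n : G) * n = 1 := h.sq n n.2
    show ((n : G) * n : G) ∈ Z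
    rw [h1]
    exact one_mem _
  · exact h.two.comap_of_injective C.subtype C.subtype_injective
  · -- Y4
    have h1 : mk.ker = Z.subgroupOf N := QuotientGroup.ker_mk' _
    have h2 : Nat.card Y' = Z.relIndex Y := by
      rw [hY', ← relIndex_ker, h1, relIndex_subgroupOf h.YN]
    rw [h2]
    exact h.Y4
  · -- XY
    rw [eq_bot_iff]
    rintro m ⟨hm1, hm2⟩
    obtain ⟨n, rfl⟩ := hmk m
    rw [mem_bot, hone']
    exact h.XY (mem_inf.2 ⟨(hsub h.ZX n).1 hm1, (hsub h.ZY n).1 hm2⟩)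
  · intro g hg
    exact (hnrm h.ZX h.XN g).2 (mem_inf.2 ⟨g.2, h.nX (hnT g hg)⟩)
  · intro g hg
    exact (hnrm h.ZY h.YN g).2 (mem_inf.2 ⟨g.2, h.nY (hnT g hg)⟩)
  · intro t ht
    exact (hfxY t).2 (h.tY t (mem_subgroupOf.1 ht))
  · rintro _ ⟨m, hm, rfl⟩ hm1 c hc
    have h1 : (m : G) ∉ Z := fun e => hm1 ((hone' m).2 e)
    rw [MulAction.mem_stabilizer_iff, hfix] at hc
    exact (hnrm h.ZX h.XN c).2 (mem_inf.2 ⟨c.2, h.sX m (mem_subgroupOf.1 hm) h1 c c.2 hc⟩)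
  · rintro _ ⟨m, hm, rfl⟩ hm1 c hc
    have h1 : (m : G) ∉ Z := fun e => hm1 ((hone' m).2 e)
    rw [MulAction.mem_stabilizer_iff, hfix] at hc
    exact (hnrm h.ZY h.YN c).2 (mem_inf.2 ⟨c.2, h.sY m (mem_subgroupOf.1 hm) h1 c c.2 hc⟩)
  · -- u1
    rintro P hP _ ⟨m, hm, rfl⟩ hT ⟨p, hp, hpm⟩
    have h1 := h.u1 _ (minPar_map h.TC hP) (map_subtype_le P) m (mem_subgroupOf.1 hm) ((hTfix m).1 hT)
      ⟨p, mem_map_of_mem C.subtype hp, fun e => hpm ((hfix p m).2 e)⟩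
    intro p hp
    exact (hfxY p).2 (h1 p (mem_map_of_mem C.subtype hp))
  · -- u2
    intro P hP hPX
    have hPX' : ¬ P.map C.subtype ≤ normalizer (X : Set G) := fun e => hPX fun p hp =>
      (hnrm h.ZX h.XN p).2 (mem_inf.2 ⟨p.2, e (mem_map_of_mem C.subtype hp)⟩)
    obtain ⟨h1, V, hXV, hVN, hPV, hVY, htr⟩ := h.u2 _ (minPar_map h.TC hP) (map_subtype_le P) hPX'
    have hZV : Z ≤ V := h.ZX.trans hXV
    refine ⟨fun p hp => (hfxY p).2 (h1 p (mem_map_of_mem C.subtype hp)), (V.subgroupOf N).map mk, ?_, ?_, ?_, ?_⟩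
    · rintro _ ⟨x, hx, rfl⟩
      exact (hsub hZV x).2 (hXV (mem_subgroupOf.1 hx))
    · intro p hp
      exact (hnrm hZV hVN p).2 (mem_inf.2 ⟨p.2, hPV (mem_map_of_mem C.subtype hp)⟩)
    · rw [eq_bot_iff]
      rintro m ⟨hm1, hm2⟩
      obtain ⟨n, rfl⟩ := hmk m
      rw [mem_bot, hone']
      exact hVY (mem_inf.2 ⟨(hsub hZV n).1 hm1, (hsub h.ZY n).1 hm2⟩)
    · intro v hv w hw hv1 hw1
      obtain ⟨v, rfl⟩ := hmk v
      obtain ⟨w, rfl⟩ := hmk w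
      obtain ⟨p, ⟨p', hp', rfl⟩, hpv⟩ := htr v ((hsub hZV v).1 hv) w ((hsub hZV w).1 hw)
        (fun e => hv1 ((hone' v).2 e)) (fun e => hw1 ((hone' w).2 e))
      refine ⟨p', hp', ?_⟩
      rw [hsm, hone]
      exact hpv
  · -- ex
    obtain ⟨m, hm, hmZ, hT⟩ := h.ex
    refine ⟨mk ⟨m, h.XN hm⟩, (hsub h.ZX _).2 hm, fun e => hmZ ((hone' _).1 e), (hTfix _).2 hT⟩
  · -- gen
    rintro _ ⟨m, hm, rfl⟩ hm1 hT U hmU hYU hCU
    set U' : Subgroup G := (U.comap mk).map N.subtype with hU'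
    have hUmem : ∀ a : N, (a : G) ∈ U' ↔ mk a ∈ U := by
      intro a
      constructor
      · rintro ⟨b, hb, hba⟩
        rw [← (Subtype.ext hba : b = a)]
        exact hb
      · exact fun ha => ⟨a, ha, rfl⟩
    have h1 : N ≤ U' := by
      refine h.gen m (mem_subgroupOf.1 hm) (fun e => hm1 ((hone' m).2 e)) ((hTfix m).1 hT) U' ((hUmem m).2 hmU) ?_ ?_
      · intro w hw
        exact (hUmem ⟨w, h.YN hw⟩).2 (hYU ((hsub h.ZY _).2 hw))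
      · refine mem_nor_of ?_
        rintro g hg _ ⟨b, hb, rfl⟩
        have h2 := hCU ⟨g, hg⟩ _ hb
        rw [hsm ⟨g, hg⟩ b] at h2
        exact (hUmem ⟨_, hmem ⟨g, hg⟩ b⟩).2 h2
    rw [eq_top_iff]
    intro m _
    obtain ⟨n, rfl⟩ := hmk m
    exact (hUmem n).1 (h1 n.2)
  · -- pair
    intro ζ hζ O hO hYO hT
    have hζ' := hnT ζ hζ
    rw [hfxY]
    set O' : Set G := {w | (∃ g ∈ C, ∃ m ∈ X, g * m * g⁻¹ = w) ∧ ∃ n : N, (n : G) = w ∧ mk n ∈ O} with hOd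
    refine h.pair ζ hζ'.1 hζ'.2 O' (fun w hw => hw.1) ?_ ?_
    · -- `Y ≤ closure O' ⊔ Z`
      have hO'N : closure O' ≤ N := by
        rw [closure_le]
        rintro w ⟨-, n, rfl, -⟩
        exact n.2
      have hSN : closure O' ⊔ Z ≤ N := sup_le hO'N hZN
      have h1 : closure O ≤ ((closure O' ⊔ Z).subgroupOf N).map mk := by
        rw [closure_le]
        intro w hw
        obtain ⟨g, _, ⟨m, hm, rfl⟩, hgm⟩ := hO w hw
        rw [← hgm, hsm]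
        refine ⟨_, ?_, rfl⟩
        refine mem_subgroupOf.2 (mem_sup_left (subset_closure ⟨⟨g, g.2, m, mem_subgroupOf.1 hm, rfl⟩, ⟨_, hmem g m⟩, rfl, ?_⟩))
        rw [← hsm, hgm]
        exact hw
      intro y hy
      have h2 := h1 (hYO ((hsub h.ZY ⟨y, h.YN hy⟩).2 hy))
      exact (hsub le_sup_right _).1 h2
    · rintro t ht w ⟨-, n, rfl, hn⟩
      obtain ⟨c, hc⟩ : ∃ c : C, (c : G) = t := ⟨⟨t, h.TC ht⟩, rfl⟩
      have h1 := hT c (mem_subgroupOf.2 (hc ▸ ht)) (mk n) hn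
      have h2 := (hfix (ζ * c * ζ⁻¹ * c⁻¹) n).1 h1
      have e : ((ζ * c * ζ⁻¹ * c⁻¹ : C) : G) = (ζ : G) * t * (ζ : G)⁻¹ * t⁻¹ := by rw [← hc]; rfl
      rwa [e] at h2
  · intro a ha
    exact Subtype.ext (h.el a (mem_subgroupOf.1 ha))
  · exact sub_o2 (hnrm h.ZX h.XN) h.Ax
  · exact sub_o2 (hnrm h.ZY h.YN) h.Ay
  · by_contra hcon
    push Not at hcon
    apply h.mv
    intro a ha
    refine h.kerA a ha fun n hn => ?_
    exact (hfix ⟨a, hAC ha⟩ ⟨n, hn⟩).1 (hcon ⟨a, hAC ha⟩ (mem_subgroupOf.2 ha) (mk ⟨n, hn⟩))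
  · rw [hfxr, ← index_comap_of_surjective _ hmk]
    exact (index_antitone hcvle).trans h.exact

end GInQ

end Cfsg.Agent.Omega.KL.Q.PlugGG
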