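import Cfsg.Agent.Omega.ML.Final
import Cfsg.Agent.Omega.ML.Ex.Def
import Cfsg.Agent.MinSimple.MinParabolic

/-!
# TEXT H (#22058 = #22405), `(E)`, `k = 2`, `q ≥ 4`, case (iii), abstract half: the literal input and output (helper461)

`C` acts on the elementary abelian 2-group `M` (`C = C_G(Z₁)`, `M = N₁/Z₁`), `T` a Sylow 2-subgroup, `X` (`= x = Z₂~`),
`Y` (`= y = V₁~`), `V` (`= V₂~`) subgroups of `M`.

* `nrm H X` : the set stabiliser of `X`;  `fxr H X` (of `Omega/ML/MinFrame.lean`) : the pointwise stabiliser;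
* `TwoQ T V X Y` : the two points, `X` moved only by minimal parabolics which normalise `V`, are transitive on `V#` and
  fix `Y` pointwise;
* `PreQ T A V X Y` : **THE INPUT** (frame side); `C` need not be faithful, `A` is exact, not necessarily an atom;
  `NoPreQ` : it does not occur;
* `InpQ T A V X Y` : the same, `H` faithful, `A` an exact atom;
* `SysQ T A V X Y` : **the middle**: `M` irreducible, `A ≤ O₂(R)` for all `T ≤ R < H`, `T` in two maximal subgroups;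
* `KKQ K T A V X Y` : **the output**: moreover `K = F*(H)` simple, `H = KT`; `KKQ.inX` : the form of the rows.
-/

set_option autoImplicit false

namespace Cfsg.Agent.Omega.KL.Q.Def

open Subgroup Cfsg Cfsg.Agent.ZN Cfsg.Agent.ClassTwoFusion.Quad Cfsg.Agent.Omega.ML.MinFrame
open Cfsg.Agent.MinSimple.MinParabolic (IsMinPar)

universe u v

/-- the set stabiliser of `X` -/
def nrm (H : Type u) [Group H] {M : Type v} [Group M] [MulDistribMulAction H M] (X : Subgroup M) : Subgroup H where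
  carrier := {g | ∀ m : M, g • m ∈ X ↔ m ∈ X}
  one_mem' := fun m => by rw [one_smul]
  mul_mem' := fun {a b} ha hb m => by rw [mul_smul, ha, hb]
  inv_mem' := fun {a} ha m => by rw [← ha (a⁻¹ • m), smul_inv_smul]

theorem mem_nrm {H : Type u} [Group H] {M : Type v} [Group M] [MulDistribMulAction H M] {X : Subgroup M} {g : H} :
    g ∈ nrm H X ↔ ∀ m : M, g • m ∈ X ↔ m ∈ X := Iff.rfl

/-- two points -/
structure TwoQ {H : Type u} [Group H] {M : Type v} [Group M] [MulDistribMulAction H M] (T : Subgroup H)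
    (V X Y : Subgroup M) : Prop where
  sq : ∀ m : M, m * m = 1
  two : IsPGroup 2 T
  syl : ¬ 2 ∣ T.index
  X1 : X ≠ ⊥
  Y4 : 4 ≤ Nat.card Y
  XV : X ≤ V
  VY : V ⊓ Y = ⊥
  /-- `N_H(T)` normalises `X` and `Y` -/
  nX : normalizer (T : Set H) ≤ nrm H X
  nY : normalizer (T : Set H) ≤ nrm H Y
  /-- `T` centralises `Y` -/
  tY : T ≤ fxr H Y
  /-- (FIX) `C_M(B) ≤ XY` for `B = C_T(X)` -/
  cB : cv M ((T ⊓ fxr H X : Subgroup H) : Set H) ≤ X ⊔ Y
  /-- (FIX) `C_M(C_T(V)) ≤ VY` -/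
  cV : cv M ((T ⊓ fxr H V : Subgroup H) : Set H) ≤ V ⊔ Y
  /-- (TI) -/
  sX : ∀ m ∈ X, m ≠ 1 → MulAction.stabilizer H m ≤ nrm H X
  sY : ∀ v ∈ Y, v ≠ 1 → MulAction.stabilizer H v ≤ nrm H Y
  /-- (2) (c) -/
  sXY : ∀ m ∈ X, ∀ v ∈ Y, m ≠ 1 → v ≠ 1 → (∀ t ∈ T, t • m = m) → ∀ g : H, g • (m * v) = m * v →
    g • m = m ∧ g • v = v
  /-- (U) -/
  uni : ∀ P : Subgroup H, IsMinPar T P → ¬ P ≤ nrm H X →
    P ≤ nrm H V ∧ P ≤ fxr H Y ∧ ∀ v ∈ V, ∀ w ∈ V, v ≠ 1 → w ≠ 1 → ∃ p ∈ P, p • v = w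

/-- **THE INPUT** (`C` need not be faithful on `M`, `A` is exact) -/
structure PreQ {C : Type u} [Group C] {M : Type v} [Group M] [MulDistribMulAction C M] (T A : Subgroup C)
    (V X Y : Subgroup M) : Prop extends TwoQ T V X Y where
  /-- `M = ⟨x₀^C⟩` -/
  gen : ∃ m ∈ X, m ≠ 1 ∧ (∀ t ∈ T, t • m = m) ∧ orb (⊤ : Subgroup C) m = ⊤
  /-- the pairing: `[ζ, T]` centralises `O`, so the preimage of `⟨O⟩ ≥ Y` -/
  pair : ∀ ζ ∈ normalizer (T : Set C), ∀ O : Set M, (∀ w ∈ O, ∃ g : C, ∃ m ∈ X, g • m = w) → Y ≤ closure O →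
    (∀ t ∈ T, ∀ w ∈ O, (ζ * t * ζ⁻¹ * t⁻¹) • w = w) → ζ ∈ fxr C Y
  el : ∀ a ∈ A, a * a = 1
  Ax : A ≤ o2 (nrm C X)
  Ay : A ≤ o2 (nrm C Y)
  mv : ∃ a ∈ A, ∃ m : M, a • m ≠ m
  le : (cv M (A : Set C)).index ≤ (fxr C (⊤ : Subgroup M)).relIndex A
  KC : IsKGroup C

/-- the conclusion of THEOREM KLQ -/
def NoPreQ : Prop :=
  ∀ (C : Type u) [Group C] [Finite C] (M : Type v) [Group M] [Finite M] [MulDistribMulAction C M]
    (T A : Subgroup C) (V X Y : Subgroup M), ¬ PreQ T A V X Y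

/-- an exact atom -/
structure Atom {H : Type u} [Group H] (M : Type v) [Group M] [MulDistribMulAction H M] (A : Subgroup H) : Prop where
  el : ∀ a ∈ A, a * a = 1
  A1 : A ≠ ⊥
  exact : (cv M (A : Set H)).index = Nat.card A
  atom : ∀ C : Subgroup H, C ≤ A → C ≠ ⊥ → C ≠ A → Nat.card C < (cv M (C : Set H)).index

/-- the input, faithful, with an atom -/
structure InpQ {H : Type u} [Group H] {M : Type v} [Group M] [MulDistribMulAction H M] (T A : Subgroup H)
    (V X Y : Subgroup M) : Prop extends TwoQ T V X Y, Atom M A where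
  faith : ∀ h : H, (∀ m : M, h • m = m) → h = 1
  pair : ∀ ζ ∈ normalizer (T : Set H), ∀ O : Set M, (∀ w ∈ O, ∃ g : H, ∃ m ∈ X, g • m = w) → Y ≤ closure O →
    (∀ t ∈ T, ∀ w ∈ O, (ζ * t * ζ⁻¹ * t⁻¹) • w = w) → ζ ∈ fxr H Y
  Ax : A ≤ o2 (nrm H X)
  Ay : A ≤ o2 (nrm H Y)
  KH : IsKGroup H

/-- **the middle** -/
structure SysQ {H : Type u} [Group H] {M : Type v} [Group M] [MulDistribMulAction H M] (T A : Subgroup H)
    (V X Y : Subgroup M) : Prop extends TwoQ T V X Y, Atom M A where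
  faith : ∀ h : H, (∀ m : M, h • m = m) → h = 1
  irr : ∀ W : Subgroup M, (∀ h : H, ∀ w ∈ W, h • w ∈ W) → W = ⊥ ∨ W = ⊤
  /-- the pairing: `C_H(T)` centralises `Y` -/
  pair : centralizer (T : Set H) ≤ fxr H Y
  AT : A ≤ T
  low : ∀ R : Subgroup H, T ≤ R → R ≠ ⊤ → A ≤ o2 R
  nmax : ¬ ∃ N : Subgroup H, N ≠ ⊤ ∧ ∀ R : Subgroup H, T ≤ R → R ≠ ⊤ → R ≤ N
  KH : IsKGroup H

/-- **the output** -/
structure KKQ {H : Type u} [Group H] {M : Type v} [Group M] [MulDistribMulAction H M] (K T A : Subgroup H)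
    (V X Y : Subgroup M) : Prop extends SysQ T A V X Y where
  norm : K.Normal
  simple : IsSimpleGroup K
  cen : centralizer (K : Set H) = ⊥
  KT : K ⊔ T = ⊤
  four : 4 ≤ Nat.card A

/-- atoms are sub-exact -/
theorem Atom.sub {H : Type u} [Group H] {M : Type v} [Group M] [MulDistribMulAction H M] {A : Subgroup H}
    (h : Atom M A) (C : Subgroup H) (hC : C ≤ A) : Nat.card C ≤ (cv M (C : Set H)).index := by
  by_cases h1 : C = ⊥
  · subst h1
    rw [card_bot]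
    have h2 : cv M ((⊥ : Subgroup H) : Set H) = ⊤ := by
      rw [eq_top_iff]
      intro m _ x hx
      rw [coe_bot, Set.mem_singleton_iff] at hx
      rw [hx, one_smul]
    rw [h2, index_top]
  · by_cases h2 : C = A
    · rw [h2, h.exact]
    · exact (h.atom C hC h1 h2).le

/-- the form of the rows -/
theorem KKQ.inX {H : Type u} [Group H] {M : Type v} [Group M] [MulDistribMulAction H M] {K T A : Subgroup H}
    {V X Y : Subgroup M} (h : KKQ K T A V X Y) : ML.Ex.InX H M K T A where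
  sq := h.sq
  faith := h.faith
  irr := h.irr
  norm := h.norm
  simple := h.simple
  cen := h.cen
  gen := h.KT
  two := h.two
  syl := h.syl
  AT := h.AT
  el := h.el
  four := h.four
  exact := h.exact
  sub := h.toAtom.sub
  low := h.low
  nmax := h.nmax

end Cfsg.Agent.Omega.KL.Q.Def
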