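import Cfsg.Agent.Omega.OM.PG.PeelQ

/-!
# The exact group of THEOREM KLQ, all `d`, all `q` (helper381 #22405 (1), helper997 #21909 (0)-(2))

Over 609's partner points and lines `PP Z U`.

* `ZV Z U = ⟨Z_1 ^ C_G(U_0)⟩ ≤ N_0`;
* `In Z U` : `PP Z U`, `U_0 ≤ N_1`, `[Q_0, Z_0] = 1`, `H_1 = ⟨N_{H_1}(U_0), N_{H_1}(Z_0)⟩`, `O₂(H_1/C(N_1)) = 1`, (NO) for `Q_a` on
  `N_u` (`a ~ u`) and for the elementary abelian subgroups of `Q_1 ∩ C(U_0)` on `ZV`;
* `In.exists_ex` : some elementary abelian `B ≤ O₂(C_G(Z_0 Z_1)) ∩ O₂(C_G(U_0))` with `[B, ZV] = 1` is exact on `N_0` and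
  does not centralise `N_0`.
-/

set_option autoImplicit false
set_option linter.unusedSectionVars false

namespace Cfsg.Agent.Omega.KL.Q.ExG

open Subgroup Cfsg Cfsg.Agent.ZN Cfsg.Agent.Omega.MinPar
open Cfsg.Agent.Omega.OM.PG Cfsg.Agent.Omega.OM.PG.Peel Cfsg.Agent.Omega.OM.PG.PeelQ
open Cfsg.Agent.Omega.NO3S.EThree Cfsg.Agent.Omega.NO3S.EThree.ExactA
open Cfsg.Agent.Omega.NoFF.Basic (conj_conj mem_conj conj_le_iff conj_le_centralizer comm_symm comm_mono Z_le_V V_le)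
open Cfsg.Agent.Omega.NOThreeL.Pair (conj_eq_of_mem)
open Cfsg.Agent.MinSimple.VModule (o2_isPGroup)
open scoped Pointwise commutatorElement

universe u

variable {G : Type u} [Group G]

/-- `⟨Z_1 ^ C_G(U_0)⟩` -/
def ZV (Z U : Fin 2 → Subgroup G) : Subgroup G := NoFF.Basic.V (Z 1) (centralizer (U 0 : Set G))

/-- the input -/
structure In (Z U : Fin 2 → Subgroup G) : Prop extends PP Z U where
  cen0 : QQ (Z 0) ≤ centralizer (Z 0 : Set G)
  U01 : U 0 ≤ NN Z (Z 1)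
  gen : HH (Z 1) ≤ (HH (Z 1) ⊓ HH (U 0)) ⊔ (HH (Z 1) ⊓ HH (Z 0))
  core : ∀ J : Subgroup G, J ≤ HH (Z 1) → HH (Z 1) ≤ normalizer (J : Set G) →
    (∀ y ∈ J, y ^ 2 ∈ centralizer (NN Z (Z 1) : Set G)) → J ≤ centralizer (NN Z (Z 1) : Set G)
  noP : NoP Z
  noH : ∀ B : Subgroup G, IsElementaryAbelian 2 B → B ≤ QQ (Z 1) → B ≤ centralizer (U 0 : Set G) → Nob (ZV Z U) B

theorem conj_cent (g : G) (N : Subgroup G) :
    MulAut.conj g • centralizer (N : Set G) = centralizer ((MulAut.conj g • N : Subgroup G) : Set G) :=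
  ZN.ChoiceBase.cj_centralizer g _

theorem le_V' (A P : Subgroup G) : A ≤ NoFF.Basic.V A P := by
  have h := Z_le_V (Z := A) (one_mem P)
  rwa [map_one, one_smul] at h

theorem le_normalizer_V' (A P : Subgroup G) : P ≤ normalizer (NoFF.Basic.V A P : Set G) := by
  intro p hp
  have h := NoFF.Basic.conj_V_mul (Z := A) (g := 1) hp
  rw [one_mul, map_one, one_smul] at h
  exact ChoiceBase.mem_normalizer_iff_cj.2 h

theorem conj_inf (g : G) (A B : Subgroup G) :
    MulAut.conj g • (A ⊓ B) = (MulAut.conj g • A) ⊓ (MulAut.conj g • B) := Subgroup.smul_inf _ _ _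

theorem le_norm_of {K X : Subgroup G} (h : ∀ k ∈ K, ∀ x ∈ X, k * x * k⁻¹ ∈ X) : K ≤ normalizer (X : Set G) := by
  intro k hk
  rw [mem_normalizer_iff]
  intro x
  refine ⟨fun hx => h k hk x hx, fun hx => ?_⟩
  have h1 := h k⁻¹ (inv_mem hk) _ hx
  have e : k⁻¹ * (k * x * k⁻¹) * k⁻¹⁻¹ = x := by group
  rwa [e] at h1

section

variable {Z U : Fin 2 → Subgroup G}

/-- `ZV` is invariant under the elements which normalise `U 0` and `Z 1` -/
theorem conj_ZV {g : G} (h1 : g ∈ HH (Z 1)) (h2 : g ∈ HH (U 0)) : MulAut.conj g • ZV Z U = ZV Z U := by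
  have key : ∀ g : G, g ∈ HH (Z 1) → g ∈ HH (U 0) → MulAut.conj g • ZV Z U ≤ ZV Z U := by
    intro g h1 h2
    refine (Subgroup.pointwise_smul_subset_iff).2 (V_le fun c hc => ?_)
    rw [← Subgroup.pointwise_smul_subset_iff, conj_conj]
    have h3 : g * c * g⁻¹ ∈ centralizer (U 0 : Set G) := by
      have h4 := conj_cent g (U 0)
      rw [conj_eq_of_mem h2] at h4
      rw [← h4, mem_conj]
      have e : g⁻¹ * (g * c * g⁻¹) * g = c := by group
      rwa [e]
    have e : g * c = (g * c * g⁻¹) * g := by group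
    rw [e, ← conj_conj, conj_eq_of_mem h1]
    exact Z_le_V h3
  refine le_antisymm (key g h1 h2) ?_
  have h3 := key g⁻¹ (inv_mem h1) (inv_mem h2)
  have h4 := conj_le_iff (g := g) |>.2 h3
  rwa [conj_conj, mul_inv_cancel, map_one, one_smul] at h4

end

namespace In

variable {Z U : Fin 2 → Subgroup G} (I : In Z U)

include I

theorem adj01 : Adj Z (Z 0) (Z 1) := ⟨1, by rw [map_one, one_smul], by rw [map_one, one_smul]⟩

theorem adj10 : Adj Z (Z 1) (Z 0) := I.adj_symm I.adj01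

theorem pt0 : IsPt Z (Z 0) := I.adj01.pt

theorem pt1 : IsPt Z (Z 1) := I.adj10.pt

theorem cent_U_le : centralizer (U 0 : Set G) ≤ centralizer (Z 0 : Set G) := centralizer_le I.ZU

theorem ZV_le : ZV Z U ≤ NN Z (Z 0) := by
  refine V_le fun c hc => Adj.le_NN ?_
  have h1 := I.adj01.conj c
  rwa [conj_eq_of_mem (centralizer_le_normalizer _ (I.cent_U_le hc))] at h1

theorem le_ZV : Z 1 ≤ ZV Z U := le_V' _ _

theorem cen1 : QQ (Z 1) ≤ centralizer (Z 1 : Set G) := by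
  obtain ⟨s, h0, -, -, -⟩ := I.swap
  have h1 := conj_le_centralizer (g := s) I.cen0
  rwa [← QQ_conj, h0] at h1

/-- `Q_1 ≤ O₂(C_G(Z_0 Z_1))` -/
theorem QQ_le_O : QQ (Z 1) ≤ o2 (centralizer ((Z 0 ⊔ Z 1 : Subgroup G) : Set G)) := by
  have h1 : centralizer ((Z 0 ⊔ Z 1 : Subgroup G) : Set G) ≤ HH (Z 1) :=
    (centralizer_le (SetLike.coe_subset_coe.2 le_sup_right)).trans (centralizer_le_normalizer _)
  refine le_o2 ?_ (o2_isPGroup _) (h1.trans (le_normalizer_o2 _))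
  exact comm_symm (sup_le (comm_symm (I.QQ_le_cent_of_adj I.adj01)) (comm_symm I.cen1))

/-- `O₂(C_G(Z_0 Z_1)) ∩ C(U_0) ∩ C(ZV) ≤ O₂(C_G(U_0))` -/
theorem le_o2_cent {B : Subgroup G} (h1 : B ≤ o2 (centralizer ((Z 0 ⊔ Z 1 : Subgroup G) : Set G)))
    (h2 : B ≤ centralizer (U 0 : Set G)) (h3 : B ≤ centralizer (ZV Z U : Set G)) :
    B ≤ o2 (centralizer (U 0 : Set G)) := by
  set K : Subgroup G := centralizer (U 0 : Set G) ⊓ centralizer (ZV Z U : Set G) with hK
  have hKD : K ≤ centralizer ((Z 0 ⊔ Z 1 : Subgroup G) : Set G) := by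
    refine comm_symm (sup_le (comm_symm ?_) (comm_symm ?_))
    · exact inf_le_left.trans I.cent_U_le
    · exact inf_le_right.trans (centralizer_le I.le_ZV)
  have h4 : o2 (centralizer ((Z 0 ⊔ Z 1 : Subgroup G) : Set G)) ⊓ K ≤ o2 K := by
    refine le_o2 inf_le_right ((o2_isPGroup _).to_le inf_le_left) ?_
    refine NO3L.LemP.le_normalizer_inf ?_ le_normalizer
    exact hKD.trans (le_normalizer_o2 _)
  have h5 : centralizer (U 0 : Set G) ≤ normalizer (K : Set G) := by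
    refine NO3L.LemP.le_normalizer_inf le_normalizer ?_
    exact (le_normalizer_V' _ _).trans (NO3L.LemP.normalizer_le_normalizer_cent _)
  have h6 : o2 K ≤ o2 (centralizer (U 0 : Set G)) := by
    refine le_o2 ((o2_le K).trans inf_le_left) (o2_isPGroup K) ?_
    exact h5.trans (Cfsg.Agent.Omega.normalizer_le_normalizer_o2' K)
  exact (le_inf h1 (le_inf h2 h3)).trans (h4.trans h6)

variable [Finite G]

/-- what is wanted -/
def Goal (Z U : Fin 2 → Subgroup G) : Prop :=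
  ∃ B : Subgroup G, IsElementaryAbelian 2 B ∧ B ≤ QQ (Z 1) ∧
    B ≤ o2 (centralizer ((Z 0 ⊔ Z 1 : Subgroup G) : Set G)) ∧
    B ≤ o2 (centralizer (U 0 : Set G)) ∧ B ≤ centralizer (ZV Z U : Set G) ∧ Exa (NN Z (Z 0)) B ∧
    ¬ B ≤ centralizer (NN Z (Z 0) : Set G)

/-- (1): `e` at distance `≤ d` of `Z_1` -/
theorem at_e {d : ℕ} {e : Subgroup G} (hcom : ∀ m ≤ d, ∀ a b, Pth Z m a b → Com Z a b) (he : Pth Z d e (Z 1)) :
    IsElementaryAbelian 2 (NN Z e) ∧ NN Z e ≤ QQ (Z 1) ∧ NN Z e ≤ centralizer (U 0 : Set G) ∧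
    Exa (NN Z (Z 0)) (NN Z e) := by
  refine ⟨NN_eab I.toPP (PP.pth_pt he), I.lemP hcom d le_rfl _ _ he,
    (hcom d le_rfl _ _ he).trans (centralizer_le I.U01), ?_⟩
  exact crit_exact I.toPP I.noP (Pth.succ he I.adj10) hcom

/-- (1): the alternative -/
theorem alt {d : ℕ} {e : Subgroup G} (hcom : ∀ m ≤ d, ∀ a b, Pth Z m a b → Com Z a b) (he : Pth Z d e (Z 1)) :
    Goal Z U ∨ NN Z e ⊓ centralizer (ZV Z U : Set G) ≤ centralizer (NN Z (Z 0) : Set G) := by
  obtain ⟨h1, h2, h3, h4⟩ := I.at_e hcom he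
  by_cases h5 : NN Z e ⊓ centralizer (ZV Z U : Set G) ≤ centralizer (NN Z (Z 0) : Set G)
  · exact Or.inr h5
  left
  have h6 : IsElementaryAbelian 2 (NN Z e ⊓ centralizer (ZV Z U : Set G) : Subgroup G) := eab_mono h1 inf_le_left
  have h7 : NN Z e ⊓ centralizer (ZV Z U : Set G) ≤ QQ (Z 1) := inf_le_left.trans h2
  have h8 := (exa_peel I.ZV_le h4 (I.noH _ h1 h2 h3) (I.noP _ _ I.adj10 _ h6 h7)).1
  have h9 := h7.trans I.QQ_le_O
  exact ⟨_, h6, h7, h9, I.le_o2_cent h9 (inf_le_left.trans h3) inf_le_right, inf_le_right, h8, h5⟩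

/-- the same at distance one: the second output of the peeling -/
theorem peel_one (hne : Exa (NN Z (Z 0)) (NN Z (Z 1))) :
    NN Z (Z 0) ⊓ centralizer ((NN Z (Z 1) ⊓ centralizer (ZV Z U : Set G) : Subgroup G) : Set G) ≤
      ZV Z U ⊔ (NN Z (Z 0) ⊓ centralizer (NN Z (Z 1) : Set G)) := by
  have h1 : IsElementaryAbelian 2 (NN Z (Z 1)) := NN_eab I.toPP I.pt1
  have h2 : NN Z (Z 1) ≤ QQ (Z 1) := I.NN_le_QQ I.pt1
  have h3 : NN Z (Z 1) ≤ centralizer (U 0 : Set G) := (I.NN_comm I.pt1).trans (centralizer_le I.U01)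
  have h6 : IsElementaryAbelian 2 (NN Z (Z 1) ⊓ centralizer (ZV Z U : Set G) : Subgroup G) :=
    eab_mono h1 inf_le_left
  exact (exa_peel I.ZV_le hne (I.noH _ h1 h2 h3) (I.noP _ _ I.adj10 _ h6 (inf_le_left.trans h2))).2

/-- `d = 1` -/
theorem end_one (h : NN Z (Z 1) ⊓ centralizer (ZV Z U : Set G) ≤ centralizer (NN Z (Z 0) : Set G))
    (hE : Exa (NN Z (Z 0)) (NN Z (Z 1))) : Com Z (Z 1) (Z 0) := by
  set N := NN Z (Z 0) with hN
  set B := NN Z (Z 1) with hB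
  have hNZY : N ≤ ZV Z U ⊔ (N ⊓ centralizer (B : Set G)) := by
    refine le_trans ?_ (I.peel_one hE)
    exact le_inf le_rfl (comm_symm h)
  -- `N ≤ N_G(B)`, `B ≤ N_G(N)`
  have hNH : N ≤ HH (Z 1) := (I.NN_le_QQ I.pt0).trans (I.QQ_le_HH I.adj10)
  have hBH : B ≤ HH (Z 0) := (I.NN_le_QQ I.pt1).trans (I.QQ_le_HH I.adj01)
  have hNn : N ≤ normalizer (B : Set G) := hNH.trans (PP.HH_le_NN _)
  have hBn : B ≤ normalizer (N : Set G) := hBH.trans (PP.HH_le_NN _)
  have hNc : N ≤ centralizer (N : Set G) := I.NN_comm I.pt0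
  set R : Subgroup G := ⁅B, N⁆ with hR
  have hRB : R ≤ B := by
    rw [hR, commutator_le]
    intro b hb n hn
    have e : ⁅b, n⁆ = b * (n * b⁻¹ * n⁻¹) := by simp only [commutatorElement_def]; group
    rw [e]
    exact mul_mem hb ((mem_normalizer_iff.1 (hNn hn) _).1 (inv_mem hb))
  have hRN : R ≤ N := by
    rw [hR, commutator_le]
    intro b hb n hn
    rw [commutatorElement_def]
    exact mul_mem ((mem_normalizer_iff.1 (hBn hb) n).1 hn) (inv_mem hn)
  -- `R = [B, ZV]`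
  have hRZ : R = ⁅B, ZV Z U⁆ := by
    apply le_antisymm
    · rw [hR, commutator_le]
      intro b hb n hn
      have hYc : N ⊓ centralizer (B : Set G) ≤ centralizer (ZV Z U : Set G) :=
        (inf_le_left.trans hNc).trans (centralizer_le I.ZV_le)
      obtain ⟨z, hz, y, hy, hzy⟩ := exists_mul_of_comm (comm_symm hYc) (hNZY hn)
      have h4 := mem_centralizer_iff.1 hy.2 b hb
      have e : ⁅b, n⁆ = ⁅b, z⁆ := by
        rw [← hzy]
        simp only [commutatorElement_def]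
        have h5 : y * b⁻¹ = b⁻¹ * y := by
          calc y * b⁻¹ = b⁻¹ * (b * y) * b⁻¹ := by group
            _ = b⁻¹ * (y * b) * b⁻¹ := by rw [h4]
            _ = b⁻¹ * y := by group
        calc b * (z * y) * b⁻¹ * (z * y)⁻¹ = b * z * (y * b⁻¹) * y⁻¹ * z⁻¹ := by group
          _ = b * z * (b⁻¹ * y) * y⁻¹ * z⁻¹ := by rw [h5]
          _ = b * z * b⁻¹ * z⁻¹ := by group
      rw [e]
      exact commutator_mem_commutator hb hz
    · exact commutator_mono le_rfl I.ZV_le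
  have hcomm : ∀ {A C : Subgroup G} {g : G}, MulAut.conj g • A = A → MulAut.conj g • C = C →
      MulAut.conj g • ⁅A, C⁆ = ⁅A, C⁆ := by
    intro A C g hA hC
    have h1 : (⁅A, C⁆ : Subgroup G).map (MulAut.conj g).toMonoidHom = ⁅A, C⁆ := by
      rw [map_commutator]
      have e1 : A.map (MulAut.conj g).toMonoidHom = A := hA
      have e2 : C.map (MulAut.conj g).toMonoidHom = C := hC
      rw [e1, e2]
    exact h1
  have hHR : HH (Z 1) ≤ normalizer (R : Set G) := by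
    refine I.gen.trans (sup_le ?_ ?_)
    · rintro g ⟨h1, h2⟩
      refine ChoiceBase.mem_normalizer_iff_cj.2 ?_
      change MulAut.conj g • R = R
      rw [hRZ]
      exact hcomm (conj_eq_of_mem (PP.HH_le_NN _ h1)) (conj_ZV h1 h2)
    · rintro g ⟨h1, h2⟩
      refine ChoiceBase.mem_normalizer_iff_cj.2 ?_
      exact hcomm (conj_eq_of_mem (PP.HH_le_NN _ h1)) (conj_eq_of_mem (PP.HH_le_NN _ h2))
  -- the group `J`
  have hRsq : ∀ x ∈ R, x ^ 2 = 1 := fun x hx => (eab_iff.1 (NN_eab I.toPP I.pt1)).2 x (hRB hx)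
  let J : Subgroup G :=
    { carrier := {x | x ∈ HH (Z 1) ∧ (∀ n ∈ B, x * n * x⁻¹ * n⁻¹ ∈ R) ∧ ∀ r ∈ R, x * r = r * x}
      one_mem' := ⟨one_mem _, fun n _ => by
        have e : (1 : G) * n * 1⁻¹ * n⁻¹ = 1 := by group
        rw [e]; exact one_mem _, fun r _ => by group⟩
      mul_mem' := by
        rintro x y ⟨hx, hx', hx''⟩ ⟨hy, hy', hy''⟩
        refine ⟨mul_mem hx hy, fun n hn => ?_, fun r hr => ?_⟩
        · have h3 := (mem_normalizer_iff.1 (hHR hx) _).1 (hy' n hn)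
          have e : x * y * n * (x * y)⁻¹ * n⁻¹ = (x * (y * n * y⁻¹ * n⁻¹) * x⁻¹) * (x * n * x⁻¹ * n⁻¹) := by group
          rw [e]; exact mul_mem h3 (hx' n hn)
        · rw [mul_assoc, hy'' r hr, ← mul_assoc, hx'' r hr, mul_assoc]
      inv_mem' := by
        rintro x ⟨hx, hx', hx''⟩
        refine ⟨inv_mem hx, fun n hn => ?_, fun r hr => ?_⟩
        · have h3 : x⁻¹ * n * x ∈ B := by
            have := (mem_normalizer_iff.1 (PP.HH_le_NN _ (inv_mem hx)) n).1 hn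
            rwa [inv_inv] at this
          have h4 := inv_mem (hx' _ h3)
          have e : x⁻¹ * n * x⁻¹⁻¹ * n⁻¹ = (x * (x⁻¹ * n * x) * x⁻¹ * (x⁻¹ * n * x)⁻¹)⁻¹ := by group
          rw [e]; exact h4
        · have h3 := hx'' r hr
          calc x⁻¹ * r = x⁻¹ * (r * x) * x⁻¹ := by group
            _ = x⁻¹ * (x * r) * x⁻¹ := by rw [h3]
            _ = r * x⁻¹ := by group }
  have hJn : HH (Z 1) ≤ normalizer (J : Set G) := by
    apply le_norm_of
    rintro c hc x ⟨hx, hx', hx''⟩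
    refine ⟨mul_mem (mul_mem hc hx) (inv_mem hc), fun n hn => ?_, fun r hr => ?_⟩
    · have h3 : c⁻¹ * n * c ∈ B := by
        have := (mem_normalizer_iff.1 (PP.HH_le_NN _ (inv_mem hc)) n).1 hn
        rwa [inv_inv] at this
      have h4 := (mem_normalizer_iff.1 (hHR hc) _).1 (hx' _ h3)
      have e : c * x * c⁻¹ * n * (c * x * c⁻¹)⁻¹ * n⁻¹ = c * (x * (c⁻¹ * n * c) * x⁻¹ * (c⁻¹ * n * c)⁻¹) * c⁻¹ := by group
      rw [e]; exact h4
    · have h3 : c⁻¹ * r * c ∈ R := by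
        have := (mem_normalizer_iff.1 (hHR (inv_mem hc)) r).1 hr
        rwa [inv_inv] at this
      have h4 := hx'' _ h3
      calc c * x * c⁻¹ * r = c * (x * (c⁻¹ * r * c)) * c⁻¹ := by group
        _ = c * ((c⁻¹ * r * c) * x) * c⁻¹ := by rw [h4]
        _ = r * (c * x * c⁻¹) := by group
  have hJ := I.core J (fun x hx => hx.1) hJn (fun y hy => by
    rw [mem_centralizer_iff]
    intro n hn
    have h3 := hy.2.1 n hn
    have h4 := hy.2.2 _ h3
    have h5 : y * n * y⁻¹ = (y * n * y⁻¹ * n⁻¹) * n := by group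
    have h6 : y * n * y⁻¹ * n⁻¹ * (y * n * y⁻¹ * n⁻¹) = 1 := by rw [← pow_two]; exact hRsq _ h3
    have h7 : y * (y * n * y⁻¹) * y⁻¹ = n := by
      calc y * (y * n * y⁻¹) * y⁻¹ = y * ((y * n * y⁻¹ * n⁻¹) * n) * y⁻¹ := by rw [← h5]
        _ = (y * (y * n * y⁻¹ * n⁻¹)) * n * y⁻¹ := by group
        _ = (y * n * y⁻¹ * n⁻¹) * (y * n * y⁻¹) := by rw [h4]; group
        _ = (y * n * y⁻¹ * n⁻¹) * ((y * n * y⁻¹ * n⁻¹) * n) := by rw [← h5]
        _ = (y * n * y⁻¹ * n⁻¹ * (y * n * y⁻¹ * n⁻¹)) * n := by group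
        _ = n := by rw [h6, one_mul]
    calc n * y ^ 2 = (y * (y * n * y⁻¹) * y⁻¹) * y ^ 2 := by rw [h7]
      _ = y ^ 2 * n := by rw [pow_two]; group)
  have hNJ : N ≤ J := by
    intro n hn
    refine ⟨hNH hn, fun b hb => ?_, fun r hr => ?_⟩
    · have h3 : ⁅b, n⁆ ∈ R := commutator_mem_commutator hb hn
      have e : n * b * n⁻¹ * b⁻¹ = ⁅b, n⁆⁻¹ := by simp only [commutatorElement_def]; group
      rw [e]; exact inv_mem h3
    · exact (mem_centralizer_iff.1 (hNc hn) r (hRN hr)).symm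
  exact comm_symm (hNJ.trans hJ)

/-- `d ≥ 2` -/
theorem end_far {d : ℕ} {e : Subgroup G} (hcom : ∀ m ≤ d + 1, ∀ a b, Pth Z m a b → Com Z a b)
    (h : ∀ e, Pth Z (d + 1) e (Z 1) →
      NN Z e ⊓ centralizer (ZV Z U : Set G) ≤ centralizer (NN Z (Z 0) : Set G))
    (he : Pth Z (d + 1) e (Z 1)) : Com Z e (Z 0) := by
  have key : ∀ g ∈ HH (Z 1), ∀ e, Pth Z (d + 1) e (Z 1) →
      NN Z e ⊓ centralizer (NN Z (MulAut.conj g • Z 0) : Set G) = NN Z e ⊓ centralizer (NN Z (Z 0) : Set G) := by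
    have hmul : ∀ g g' : G, g ∈ HH (Z 1) →
        (∀ e, Pth Z (d + 1) e (Z 1) → NN Z e ⊓ centralizer (NN Z (MulAut.conj g • Z 0) : Set G) =
          NN Z e ⊓ centralizer (NN Z (Z 0) : Set G)) →
        (∀ e, Pth Z (d + 1) e (Z 1) → NN Z e ⊓ centralizer (NN Z (MulAut.conj g' • Z 0) : Set G) =
          NN Z e ⊓ centralizer (NN Z (Z 0) : Set G)) →
        (∀ e, Pth Z (d + 1) e (Z 1) → NN Z e ⊓ centralizer (NN Z (MulAut.conj (g * g') • Z 0) : Set G) =
          NN Z e ⊓ centralizer (NN Z (Z 0) : Set G)) := by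
      intro g g' hg h1 h2 e he
      have h3 := PP.pth_conj he g⁻¹
      rw [conj_eq_of_mem (inv_mem hg)] at h3
      have h4 := congrArg (fun A => MulAut.conj g • A) (h2 _ h3)
      simp only [conj_inf, conj_cent, ← NN_conj, conj_conj, mul_inv_cancel, map_one,
        one_smul] at h4
      rw [h4]
      exact h1 e he
    have hinv : ∀ g : G, g ∈ HH (Z 1) →
        (∀ e, Pth Z (d + 1) e (Z 1) → NN Z e ⊓ centralizer (NN Z (MulAut.conj g • Z 0) : Set G) =
          NN Z e ⊓ centralizer (NN Z (Z 0) : Set G)) →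
        (∀ e, Pth Z (d + 1) e (Z 1) → NN Z e ⊓ centralizer (NN Z (MulAut.conj g⁻¹ • Z 0) : Set G) =
          NN Z e ⊓ centralizer (NN Z (Z 0) : Set G)) := by
      intro g hg h1 e he
      have h3 := PP.pth_conj he g
      rw [conj_eq_of_mem hg] at h3
      have h4 := congrArg (fun A => MulAut.conj g⁻¹ • A) (h1 _ h3)
      simp only [conj_inf, conj_cent, ← NN_conj, conj_conj, inv_mul_cancel, map_one,
        one_smul] at h4
      exact h4.symm
    have hone : ∀ e, Pth Z (d + 1) e (Z 1) → NN Z e ⊓ centralizer (NN Z (MulAut.conj (1 : G) • Z 0) : Set G) =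
        NN Z e ⊓ centralizer (NN Z (Z 0) : Set G) := fun e _ => by rw [map_one, one_smul]
    let K : Subgroup G :=
      { carrier := {g | g ∈ HH (Z 1) ∧ ∀ e, Pth Z (d + 1) e (Z 1) →
          NN Z e ⊓ centralizer (NN Z (MulAut.conj g • Z 0) : Set G) = NN Z e ⊓ centralizer (NN Z (Z 0) : Set G)}
        one_mem' := ⟨one_mem _, hone⟩
        mul_mem' := fun {x y} hx hy => ⟨mul_mem hx.1 hy.1, hmul x y hx.1 hx.2 hy.2⟩
        inv_mem' := fun {x} hx => ⟨inv_mem hx.1, hinv x hx.1 hx.2⟩ }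
    have hK : HH (Z 1) ≤ K := by
      refine I.gen.trans (sup_le ?_ ?_)
      · rintro g ⟨hg1, hg2⟩
        refine ⟨hg1, fun e he => ?_⟩
        have h3 := PP.pth_conj he g⁻¹
        rw [conj_eq_of_mem (inv_mem hg1)] at h3
        have h5 : ∀ e, Pth Z (d + 1) e (Z 1) →
            NN Z e ⊓ centralizer (NN Z (Z 0) : Set G) = NN Z e ⊓ centralizer (ZV Z U : Set G) := fun e he =>
          le_antisymm (inf_le_inf_left _ (centralizer_le I.ZV_le)) (le_inf inf_le_left (h e he))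
        have h4 := congrArg (fun A => MulAut.conj g • A) (h5 _ h3)
        simp only [conj_inf, conj_cent, ← NN_conj, conj_conj, mul_inv_cancel, map_one, one_smul,
          conj_ZV hg1 hg2] at h4
        rw [h4, h5 e he]
      · rintro g ⟨hg1, hg2⟩
        refine ⟨hg1, fun e _ => ?_⟩
        rw [conj_eq_of_mem hg2]
    exact fun g hg => (hK hg).2
  -- the last vertex but one
  have he' := he
  cases he' with
  | @succ _ _ b' _ h1 h2 =>
    obtain ⟨k, rfl, hk⟩ := h2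
    have hkH : k ∈ HH (Z 1) := ChoiceBase.mem_normalizer_iff_cj.2 hk.symm
    have h3 := I.lemP hcom d (Nat.le_succ d) _ _ h1
    have h4 : NN Z e ≤ centralizer (NN Z (MulAut.conj k • Z 0) : Set G) :=
      h3.trans (I.QQ_le_cent ⟨k, rfl⟩)
    have h5 := key k hkH e he
    rw [inf_eq_left.2 h4] at h5
    exact inf_eq_left.1 h5.symm

/-- **THE EXACT GROUP**, all `d`, all `q`. -/
theorem exists_ex : Goal Z U := by
  obtain ⟨d, a, b, hab, hne, hcom⟩ := I.toPP.exists_crit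
  -- the last step is `(Z 1, Z 0)`
  obtain ⟨e, he, hne'⟩ : ∃ e, Pth Z d e (Z 1) ∧ ¬ Com Z e (Z 0) := by
    cases hab with
    | @succ _ _ b' _ h1 h2 =>
      obtain ⟨k, rfl, rfl⟩ := I.adj_symm h2
      refine ⟨MulAut.conj k⁻¹ • a, ?_, fun hc => hne ?_⟩
      · have h3 := PP.pth_conj h1 k⁻¹
        rwa [conj_conj, inv_mul_cancel, map_one, one_smul] at h3
      · unfold Com at hc ⊢
        have h3 := conj_le_centralizer (g := k) hc
        rwa [← NN_conj, ← NN_conj, conj_conj, mul_inv_cancel, map_one, one_smul] at h3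
  by_contra hG
  have halt : ∀ e, Pth Z d e (Z 1) →
      NN Z e ⊓ centralizer (ZV Z U : Set G) ≤ centralizer (NN Z (Z 0) : Set G) :=
    fun e he => (I.alt hcom he).resolve_left hG
  rcases d with _ | d
  · have he0 : e = Z 1 := by
      cases he with
      | zero _ => rfl
    subst he0
    exact hne' (I.end_one (halt _ he) (I.at_e hcom he).2.2.2)
  · exact hne' (I.end_far hcom halt he)

end In

end Cfsg.Agent.Omega.KL.Q.ExG
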