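import Cfsg.Agent.Omega.KL.Q.ExBg
import Cfsg.Agent.Omega.KL.QF.Frame

/-!
# The exact group of THEOREM KLQ from `Bg` and UNI (`k = 2`, all `q`, every level)

* `gen_i`, `gen_j` : `N(Z i) = ⟨N(Z i) ∩ N(W j), N(Z i) ∩ N(Z j)⟩` from UNI for the minimal parabolics of `C(Z i)` over a Sylow
  2-subgroup `T ≥ B` of `C(Z i)`;
* `in_of_uni`, `exists_ex_of_uni`; `in_of_qfr`, `exists_ex_of_qfr` : with helper49's frame `QFr`.
-/

set_option autoImplicit false
set_option linter.unusedSectionVars false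

namespace Cfsg.Agent.Omega.KL.Q.ExQF

open Subgroup Cfsg Cfsg.Agent.ZN.ChoiceBase
open Cfsg.Agent.ZN (jj zj bau zc zl o2)
open Cfsg.Agent.ZN.ChoiceSit (Syl exists_syl syl_conj syl_not_dvd)
open Cfsg.Agent.Omega.OM Cfsg.Agent.Omega.OM.Uni
open Cfsg.Agent.Omega.OM.PG
open Cfsg.Agent.Omega.NO3S.EThree.Frame
open Cfsg.Agent.Omega.MinPar (NonLoc)
open Cfsg.Agent.MinSimple.MinParabolic (IsMinPar)
open scoped Pointwise

universe u

variable {G : Type u} [Group G]

section

variable [Finite G] {S : Sylow 2 G} {P : Subgroup G} {ι : Type} {B ZJ : Subgroup G}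
  {L W Z C : ι → Subgroup G} {q : ℕ} (h : Bg S P B ZJ L W Z C q) {i j : ι} {s : G}
include h

/-- `k = 2`: an element of `N(Z i)` normalising a 2-group over `B` normalises `Z j`. -/
theorem norm_j (hij : i ≠ j) (h2 : ∀ l : ι, l = i ∨ l = j) {T : Subgroup G} (hT2 : IsPGroup 2 T) (hBT : B ≤ T)
    {g : G} (hg : g ∈ normalizer (Z i : Set G)) (hgT : g ∈ normalizer (T : Set G)) :
    g ∈ normalizer (Z j : Set G) := by
  have h1 : cj g B = B := h.wc T hT2 hBT g (by
    have := cj_mono g hBT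
    rwa [cj_eq_of_mem_normalizer hgT] at this)
  obtain ⟨-, h3⟩ := h.nrm g (mem_normalizer_iff_cj.2 h1)
  obtain ⟨l, hl, -⟩ := h3 j
  rcases h2 l with rfl | rfl
  · exfalso
    have h4 : cj g (Z j) = cj g (Z l) := hl.trans (cj_eq_of_mem_normalizer hg).symm
    have h5 := congrArg (cj g⁻¹) h4
    rw [cj_inv_cj, cj_inv_cj] at h5
    exact hij (h.Z_inj h5).symm
  · exact mem_normalizer_iff_cj.2 hl

/-- `N(Z i) = ⟨N(Z i) ∩ N(W j), N(Z i) ∩ N(Z j)⟩` -/
theorem gen_i (hij : i ≠ j) (h2 : ∀ l : ι, l = i ∨ l = j) {T : Subgroup G} (hBT : B ≤ T)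
    (hT : Syl T (centralizer (Z i : Set G)))
    (hu : ∀ R : Subgroup G, IsMinPar T R → R ≤ centralizer (Z i : Set G) → ¬ R ≤ normalizer (Z j : Set G) →
      R ≤ normalizer (W j : Set G)) :
    normalizer (Z i : Set G) ≤ (normalizer (Z i : Set G) ⊓ normalizer (W j : Set G)) ⊔
      (normalizer (Z i : Set G) ⊓ normalizer (Z j : Set G)) := by
  set Y : Subgroup G := (normalizer (Z i : Set G) ⊓ normalizer (W j : Set G)) ⊔
      (normalizer (Z i : Set G) ⊓ normalizer (Z j : Set G)) with hY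
  have hc : centralizer (Z i : Set G) ≤ normalizer (Z i : Set G) := centralizer_le_normalizer _
  have hN : ∀ g : G, g ∈ normalizer (Z i : Set G) → g ∈ normalizer (T : Set G) → g ∈ Y := fun g hg hgT =>
    (le_sup_right : _ ≤ Y) ⟨hg, norm_j h hij h2 hT.2.1 hBT hg hgT⟩
  have h1 : centralizer (Z i : Set G) ≤ Y := by
    refine Cfsg.Agent.MinSimple.MinParabolic.le_of_forall (S := T) hT.1 (fun g hg => hN g (hc hg.1) hg.2) ?_
    intro R hR hRC
    by_cases hRj : R ≤ normalizer (Z j : Set G)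
    · exact (le_inf (hRC.trans hc) hRj).trans le_sup_right
    · exact (le_inf (hRC.trans hc) (hu R hR hRC hRj)).trans le_sup_left
  intro g hg
  -- Frattini
  have hcg : cj g (centralizer (Z i : Set G)) = centralizer (Z i : Set G) := by
    rw [cj_centralizer, cj_eq_of_mem_normalizer hg]
  have hgT : Syl (cj g T) (centralizer (Z i : Set G)) := by
    refine ⟨by rw [← hcg]; exact cj_mono g hT.1, isPGroup_cj g hT.2.1, fun R hR hR2 hle => ?_⟩
    have h3 : cj g⁻¹ R = T := by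
      refine hT.2.2 (cj g⁻¹ R) ?_ (isPGroup_cj _ hR2) ?_
      · have := cj_mono g⁻¹ hR
        have e : cj g⁻¹ (centralizer (Z i : Set G)) = centralizer (Z i : Set G) := by
          rw [← hcg, cj_inv_cj, hcg]
        rwa [e] at this
      · have := cj_mono g⁻¹ hle
        rwa [cj_inv_cj] at this
    rw [← h3, cj_cj, mul_inv_cancel, cj_one]
  obtain ⟨x, hx, e⟩ := syl_conj hT hgT
  have h3 : x⁻¹ * g ∈ normalizer (T : Set G) := by
    rw [mem_normalizer_iff_cj, ← cj_cj, ← e, cj_inv_cj]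
  have h4 : x⁻¹ * g ∈ Y := hN _ (mul_mem (inv_mem (hc hx)) hg) h3
  have e2 : g = x * (x⁻¹ * g) := by group
  rw [e2]
  exact mul_mem (h1 hx) h4

/-- The same for `Z j`, by the swap. -/
theorem gen_j (p : Pa (S : Subgroup G) W i j s) (h2 : ∀ l : ι, l = i ∨ l = j) {T : Subgroup G} (hBT : B ≤ T)
    (hT : Syl T (centralizer (Z i : Set G)))
    (hu : ∀ R : Subgroup G, IsMinPar T R → R ≤ centralizer (Z i : Set G) → ¬ R ≤ normalizer (Z j : Set G) →
      R ≤ normalizer (W j : Set G)) :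
    normalizer (Z j : Set G) ≤ (normalizer (Z j : Set G) ⊓ normalizer (W i : Set G)) ⊔
      (normalizer (Z j : Set G) ⊓ normalizer (Z i : Set G)) := by
  have h1 := cj_mono s (gen_i h p.ne h2 hBT hT hu)
  have e : ∀ X Y : Subgroup G, cj s (X ⊔ Y) = cj s X ⊔ cj s Y := fun X Y => Subgroup.map_sup X Y _
  rw [e, cj_inf, cj_inf, cj_normalizer, cj_normalizer, cj_normalizer, h.cj_s_Z p, h.cj_s_Z' p, p.ji] at h1
  exact h1

variable [Finite ι]

/-- **The input of `ExG` from `Bg` and UNI.** -/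
theorem in_of_uni (p : Pa (S : Subgroup G) W i j s) (h2 : ∀ l : ι, l = i ∨ l = j) (hTI : TI (Z i))
    (hnl : NonLoc (normalizer (Z i : Set G)) (normalizer (Z j : Set G))) (hML : ML.Final.MLK.{u, u})
    {T : Subgroup G} (hBT : B ≤ T) (hT : Syl T (centralizer (Z i : Set G)))
    (hu : ∀ R : Subgroup G, IsMinPar T R → R ≤ centralizer (Z i : Set G) → ¬ R ≤ normalizer (Z j : Set G) →
      R ≤ normalizer (W j : Set G)) : ExG.In ![Z i, Z j] ![W i, W j] :=
  ExBg.in_of h p hTI hnl hML (gen_j h p h2 hBT hT hu)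

/-- **The exact group from `Bg` and UNI.** -/
theorem exists_ex_of_uni (p : Pa (S : Subgroup G) W i j s) (h2 : ∀ l : ι, l = i ∨ l = j) (hTI : TI (Z i))
    (hnl : NonLoc (normalizer (Z i : Set G)) (normalizer (Z j : Set G))) (hML : ML.Final.MLK.{u, u})
    {T : Subgroup G} (hBT : B ≤ T) (hT : Syl T (centralizer (Z i : Set G)))
    (hu : ∀ R : Subgroup G, IsMinPar T R → R ≤ centralizer (Z i : Set G) → ¬ R ≤ normalizer (Z j : Set G) →
      R ≤ normalizer (W j : Set G)) : ExG.In.Goal ![Z i, Z j] ![W i, W j] :=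
  (in_of_uni h p h2 hTI hnl hML hBT hT hu).exists_ex

variable {T : Subgroup G}

/-- **The input of `ExG` from `Bg` and helper49's frame.** -/
theorem in_of_qfr (p : Pa (S : Subgroup G) W i j s) (h2 : ∀ l : ι, l = i ∨ l = j) (hTI : TI (Z i))
    (hML : ML.Final.MLK.{u, u}) (D : QF.QFr ![Z i, Z j] ![W i, W j] B T) : ExG.In ![Z i, Z j] ![W i, W j] := by
  have hnl : NonLoc (normalizer (Z i : Set G)) (normalizer (Z j : Set G)) := D.nonLoc
  have hBT : B ≤ T := D.TB ▸ inf_le_left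
  exact in_of_uni h p h2 hTI hnl hML hBT D.syl fun R hR hRC hRj => (D.uni R hR hRC hRj).1

/-- **The exact group from `Bg` and helper49's frame.** -/
theorem exists_ex_of_qfr (p : Pa (S : Subgroup G) W i j s) (h2 : ∀ l : ι, l = i ∨ l = j) (hTI : TI (Z i))
    (hML : ML.Final.MLK.{u, u}) (D : QF.QFr ![Z i, Z j] ![W i, W j] B T) : ExG.In.Goal ![Z i, Z j] ![W i, W j] :=
  (in_of_qfr h p h2 hTI hML D).exists_ex

end

end Cfsg.Agent.Omega.KL.Q.ExQF
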