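import Cfsg.Agent.Omega.KL.Q.Tools
import Cfsg.Agent.Omega.KL.Quo

/-!
# TEXT H (#22058), abstract half: `PreQ → InpQ` (helper461)

The action may be non-faithful and `A` is not an atom; **`PreQ.inp`** : `C / C_C(M)` and an atom of `A`.
-/

set_option autoImplicit false

namespace Cfsg.Agent.Omega.KL.Q.Pre

open Subgroup Cfsg Cfsg.Agent.ZN Cfsg.Agent.ClassTwoFusion.Quad Cfsg.Agent.Omega.ML.MinFrame
open Cfsg.Agent.Omega.KL.Q.Def Cfsg.Agent.Omega.KL.Q.Tools
open Cfsg.Agent.Omega.KL.Quo (exists_minPar norm_lift)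
open Cfsg.Agent.MinSimple.MinParabolic (IsMinPar le_of_forall)
open Cfsg.Agent.MinSimple.VModule (o2_isPGroup o2_le le_o2 le_normalizer_o2)

universe u v

section quo

variable {C : Type u} [Group C] [Finite C] {M : Type v} [Group M] [Finite M] [MulDistribMulAction C M]
  {H : Type u} [Group H] [MulDistribMulAction H M] {T : Subgroup C} {V X Y : Subgroup M}

variable {π : C →* H} (hπ : Function.Surjective π) (he : ∀ (g : C) (v : M), π g • v = g • v)

include hπ he

omit [Finite C] [Finite M] in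
theorem nrm_map : (nrm C X).map π = nrm H X := by
  ext g
  constructor
  · rintro ⟨c, hc, rfl⟩
    rw [mem_nrm]
    intro m
    rw [he]
    exact hc m
  · intro hg
    obtain ⟨c, rfl⟩ := hπ g
    exact ⟨c, fun m => by rw [← he]; exact hg m, rfl⟩

omit [Finite C] [Finite M] in
theorem fxr_map : (fxr C X).map π = fxr H X := by
  ext g
  constructor
  · rintro ⟨c, hc, rfl⟩ m hm
    rw [he]
    exact hc m hm
  · intro hg
    obtain ⟨c, rfl⟩ := hπ g
    exact ⟨c, fun m hm => by rw [← he]; exact hg m hm, rfl⟩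

/-- `TwoQ` of a quotient by a group which centralises `M` -/
theorem twoQ_map (h : TwoQ T V X Y) : TwoQ (T.map π) V X Y where
  sq := h.sq
  two := h.two.map π
  syl := fun h2 => h.syl (h2.trans (index_map_dvd T hπ))
  X1 := h.X1
  Y4 := h.Y4
  XV := h.XV
  VY := h.VY
  nX := by
    intro g hg
    obtain ⟨t, ht, n, hn, rfl⟩ := norm_lift π hπ h.two h.syl hg
    rw [← nrm_map hπ he]
    exact mem_map_of_mem π (mul_mem (h.nX (le_normalizer ht)) (h.nX hn))
  nY := by
    intro g hg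
    obtain ⟨t, ht, n, hn, rfl⟩ := norm_lift π hπ h.two h.syl hg
    rw [← nrm_map hπ he]
    exact mem_map_of_mem π (mul_mem (h.nY (le_normalizer ht)) (h.nY hn))
  tY := by
    rw [← fxr_map hπ he]
    exact map_mono h.tY
  cB := by
    intro w hw
    refine h.cB fun t ht => ?_
    rw [← he]
    refine hw _ ⟨mem_map_of_mem π ht.1, ?_⟩
    rw [← fxr_map hπ he]
    exact mem_map_of_mem π ht.2
  cV := by
    intro w hw
    refine h.cV fun t ht => ?_
    rw [← he]
    refine hw _ ⟨mem_map_of_mem π ht.1, ?_⟩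
    rw [← fxr_map hπ he]
    exact mem_map_of_mem π ht.2
  sX := by
    intro m hm hm1 g hg
    obtain ⟨c, rfl⟩ := hπ g
    rw [← nrm_map hπ he]
    exact mem_map_of_mem π (h.sX m hm hm1 (by rw [MulAction.mem_stabilizer_iff] at hg ⊢; rwa [he] at hg))
  sY := by
    intro m hm hm1 g hg
    obtain ⟨c, rfl⟩ := hπ g
    rw [← nrm_map hπ he]
    exact mem_map_of_mem π (h.sY m hm hm1 (by rw [MulAction.mem_stabilizer_iff] at hg ⊢; rwa [he] at hg))
  sXY := by
    intro m hm v hv hm1 hv1 htm g hg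
    obtain ⟨c, rfl⟩ := hπ g
    rw [he] at hg ⊢
    rw [he]
    exact h.sXY m hm v hv hm1 hv1 (fun t ht => by rw [← he]; exact htm _ (mem_map_of_mem π ht)) c hg
  uni := by
    intro P hP hmv
    obtain ⟨R, hR, rfl⟩ := exists_minPar π hπ hP
    obtain ⟨h1, h2, h3⟩ := h.uni R hR (fun h4 => hmv (by
      rw [← nrm_map hπ he]
      exact map_mono h4))
    refine ⟨?_, ?_, ?_⟩
    · rw [← nrm_map hπ he]
      exact map_mono h1
    · rw [← fxr_map hπ he]
      exact map_mono h2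
    · intro v hv w hw hv1 hw1
      obtain ⟨p, hp, hpw⟩ := h3 v hv w hw hv1 hw1
      exact ⟨π p, mem_map_of_mem π hp, by rw [he]; exact hpw⟩

omit [Finite C] [Finite M] in
/-- the `pair` field -/
theorem pair_map (two : IsPGroup 2 T) (syl : ¬ 2 ∣ T.index) [Finite C]
    (pair : ∀ ζ ∈ normalizer (T : Set C), ∀ O : Set M, (∀ w ∈ O, ∃ g : C, ∃ m ∈ X, g • m = w) → Y ≤ closure O →
      (∀ t ∈ T, ∀ w ∈ O, (ζ * t * ζ⁻¹ * t⁻¹) • w = w) → ζ ∈ fxr C Y) :
    ∀ ζ ∈ normalizer (T.map π : Set H), ∀ O : Set M, (∀ w ∈ O, ∃ g : H, ∃ m ∈ X, g • m = w) → Y ≤ closure O →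
      (∀ t ∈ T.map π, ∀ w ∈ O, (ζ * t * ζ⁻¹ * t⁻¹) • w = w) → ζ ∈ fxr H Y := by
  intro ζ hζ O hO hY hc
  obtain ⟨t, ht, n, hn, rfl⟩ := norm_lift π hπ two syl hζ
  rw [← fxr_map hπ he]
  refine mem_map_of_mem π (pair (t * n) (mul_mem (le_normalizer ht) hn) O ?_ hY ?_)
  · intro w hw
    obtain ⟨g, m, hm, hgm⟩ := hO w hw
    obtain ⟨c, rfl⟩ := hπ g
    exact ⟨c, m, hm, by rw [← he]; exact hgm⟩
  · intro s hs w hw
    have h1 := hc (π s) (mem_map_of_mem π hs) w hw
    rw [← he]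
    simpa only [map_mul, map_inv] using h1

end quo

section pre

variable {C : Type u} [Group C] [Finite C] {M : Type v} [Group M] [Finite M] [MulDistribMulAction C M]
  {T A : Subgroup C} {V X Y : Subgroup M}

theorem inp (hML : ML.Final.MLK.{u, v}) (h : PreQ T A V X Y) :
    ∃ (H : Type u) (_ : Group H) (_ : Finite H) (_ : MulDistribMulAction H M) (T' A' : Subgroup H),
      InpQ T' A' V X Y := by
  have htriv : ∀ k ∈ fxr C (⊤ : Subgroup M), ∀ m : M, k • m = m := fun k hk m => hk m (mem_top m)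
  have hN : (fxr C (⊤ : Subgroup M)).Normal := fxr_normal fun _ _ _ => mem_top _
  set N := fxr C (⊤ : Subgroup M) with hNdef
  let _ : MulDistribMulAction (C ⧸ N) M := quoAct N htriv
  let π : C →* C ⧸ N := QuotientGroup.mk' N
  have hπ : Function.Surjective π := QuotientGroup.mk'_surjective N
  have he : ∀ (g : C) (v : M), π g • v = g • v := fun _ _ => rfl
  have hker : ∀ k : C, (∀ v : M, k • v = v) → π k = 1 := fun k hk =>
    (QuotientGroup.eq_one_iff k).2 fun v _ => hk v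
  have hker2 : ∀ k : C, π k = 1 → ∀ v : M, k • v = v := fun k hk v =>
    (QuotientGroup.eq_one_iff k).1 hk v (mem_top v)
  obtain ⟨x, hxX, hx1, hTx, hgen⟩ := h.gen
  have ho2 : ∀ S : Subgroup C, A ≤ o2 S → A.map π ≤ o2 (S.map π) := fun S hS =>
    (map_mono hS).trans (le_o2 (map_mono (o2_le _)) ((o2_isPGroup _).map π)
      ((map_mono (le_normalizer_o2 _)).trans (le_normalizer_map π)))
  have hx : A.map π ≤ o2 (nrm (C ⧸ N) X) := by
    rw [← nrm_map hπ he]
    exact ho2 _ h.Ax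
  have hy : A.map π ≤ o2 (nrm (C ⧸ N) Y) := by
    rw [← nrm_map hπ he]
    exact ho2 _ h.Ay
  have hgen' : orb (⊤ : Subgroup (C ⧸ N)) x = ⊤ := by
    rw [eq_top_iff, ← hgen]
    exact orb_le fun g _ => smul_mem_orb_self (g := π g) (mem_top _)
  have hfaith : ∀ g : C ⧸ N, (∀ m : M, g • m = m) → g = 1 := by
    intro g hg
    obtain ⟨c, rfl⟩ := hπ g
    exact hker c hg
  have hsyl : ¬ 2 ∣ (T.map π).index := fun h2 => h.syl (h2.trans (index_map_dvd T hπ))
  have hKH : IsKGroup (C ⧸ N) := ML.Final.sec_KG.quo C h.KC N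
  have hel : ∀ a ∈ A.map π, a * a = 1 := by
    rintro _ ⟨a, ha, rfl⟩
    rw [← map_mul, h.el a ha, map_one]
  have hTQ := twoQ_map hπ he h.toTwoQ
  -- `A ≤ O₂(Stab x)`
  have hAT : A.map π ≤ T.map π := by
    exact hx.trans (MinSimple.VModule.o2_le_of_sylow (h.two.map π)
      fun h2 => hsyl (h2.trans (relIndex_dvd_index_of_le (le_normalizer.trans hTQ.nX))))
  have hstab : A.map π ≤ o2 (MulAction.stabilizer (C ⧸ N) x) := by
    have h1 : A.map π ≤ MulAction.stabilizer (C ⧸ N) x := by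
      intro a ha
      obtain ⟨t, ht, rfl⟩ := hAT ha
      rw [MulAction.mem_stabilizer_iff, he, hTx t ht]
    have h2 : o2 (nrm (C ⧸ N) X) ⊓ MulAction.stabilizer (C ⧸ N) x ≤ o2 (MulAction.stabilizer (C ⧸ N) x) := by
      refine le_o2 inf_le_right ((o2_isPGroup _).to_le inf_le_left) ?_
      intro g hg
      have h3 := le_normalizer_o2 _ (hTQ.sX x hxX hx1 hg)
      rw [mem_normalizer_iff] at h3 ⊢
      intro k
      constructor
      · rintro ⟨hk1, hk2⟩
        exact ⟨(h3 k).1 hk1, Subgroup.mul_mem _ (Subgroup.mul_mem _ hg hk2) (Subgroup.inv_mem _ hg)⟩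
      · rintro ⟨hk1, hk2⟩
        refine ⟨(h3 k).2 hk1, ?_⟩
        have := Subgroup.mul_mem _ (Subgroup.mul_mem _ (Subgroup.inv_mem _ hg) hk2) hg
        have e : g⁻¹ * (g * k * g⁻¹) * g = k := by group
        rwa [e] at this
    exact (le_inf hx h1).trans h2
  -- (NO)
  have hfx : fxr (C ⧸ N) (⊤ : Subgroup M) = ⊥ := by
    rw [Subgroup.eq_bot_iff_forall]
    exact fun g hg => hfaith g fun m => hg m (mem_top m)
  have hno : ∀ B : Subgroup (C ⧸ N), B ≤ A.map π → Nat.card B ≤ (cv M (B : Set (C ⧸ N))).index := by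
    intro B hB
    have key := GenTool.no hML hKH h.sq (T := T.map π) (A := B) (x := x) (h.two.map π) hsyl
      (by
        rintro _ ⟨t, ht, rfl⟩
        rw [he, hTx t ht]) hgen' (fun b hb => hel b (hB hb)) (hB.trans hstab)
    rwa [hfx, relIndex_bot_left] at key
  -- `A` is exact
  have hcv : cv M (A.map π : Set (C ⧸ N)) = cv M (A : Set C) := by
    ext v
    constructor
    · exact fun hv a ha => hv _ ⟨a, ha, rfl⟩
    · rintro hv _ ⟨a, ha, rfl⟩
      exact hv a ha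
  have hcard : Nat.card (A.map π) = N.relIndex A := by
    rw [← relIndex_bot_left, ← relIndex_comap, MonoidHom.comap_bot, QuotientGroup.ker_mk']
  have hex : (cv M (A.map π : Set (C ⧸ N))).index = Nat.card (A.map π) := by
    refine le_antisymm ?_ (hno _ le_rfl)
    rw [hcv, hcard]
    exact h.le
  have hA1 : A.map π ≠ ⊥ := by
    intro h1
    obtain ⟨a, ha, m, ham⟩ := h.mv
    apply ham
    refine hker2 a ?_ m
    rw [← mem_bot, ← h1]
    exact ⟨a, ha, rfl⟩
  -- an atom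
  obtain ⟨B, ⟨hBA, hB1, hBe⟩, hmin⟩ : ∃ B : Subgroup (C ⧸ N), (B ≤ A.map π ∧ B ≠ ⊥ ∧
      (cv M (B : Set (C ⧸ N))).index = Nat.card B) ∧ ∀ B' : Subgroup (C ⧸ N), (B' ≤ A.map π ∧ B' ≠ ⊥ ∧
      (cv M (B' : Set (C ⧸ N))).index = Nat.card B') → B' ≤ B → B' = B := by
    obtain ⟨B, hB⟩ := (Set.toFinite {B : Subgroup (C ⧸ N) | B ≤ A.map π ∧ B ≠ ⊥ ∧
      (cv M (B : Set (C ⧸ N))).index = Nat.card B}).exists_minimal ⟨A.map π, le_rfl, hA1, hex⟩
    exact ⟨B, hB.prop, fun B' hB' hle => le_antisymm hle (hB.le_of_le hB' hle)⟩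
  refine ⟨C ⧸ N, inferInstance, inferInstance, inferInstance, T.map π, B, ?_⟩
  refine InpQ.mk hTQ (Atom.mk (fun a ha => hel a (hBA ha)) hB1 hBe ?_) hfaith
    (pair_map hπ he h.two h.syl h.pair) (hBA.trans hx) (hBA.trans hy) hKH
  intro B' hB' hB1' hne
  refine lt_of_le_of_ne (hno B' (hB'.trans hBA)) fun h1 => hne ?_
  exact hmin B' ⟨hB'.trans hBA, hB1', h1.symm⟩ hB'

end pre

end Cfsg.Agent.Omega.KL.Q.Pre
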