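import Cfsg.Agent.Omega.KL.Q.Def
import Cfsg.Agent.Omega.KL.GenTool

/-!
# TEXT H (#22058), abstract half: tools (helper461)

* `mem_nrm_of`, `fxr_le_nrm`, `nrm_fxr` : set stabilisers;
* `alt`, `eq_of_le` : a normal subgroup `D` of a `T`-minimal `P` : `DT = P` or `T ∩ D` is normal in `P`;
* `exists_fixed` in `X` : `TwoQ.exists_m`; `eq_of_mul` : `V ∩ Y = 1`;
* `TwoQ.fix_top`, ...;
* **`sXY_of`** : (2) (c) from `N(C_T(X)) ≤ N(X) ∩ N(Y)`.
-/

set_option autoImplicit false

namespace Cfsg.Agent.Omega.KL.Q.Tools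

open Subgroup Cfsg Cfsg.Agent.ZN Cfsg.Agent.ClassTwoFusion.Quad Cfsg.Agent.Omega.ML.MinFrame
open Cfsg.Agent.Omega.KL.Q.Def
open Cfsg.Agent.MinSimple.MinParabolic (IsMinPar le_of_forall)

universe u v

section nrm

variable {H : Type u} [Group H] {M : Type v} [Group M] [MulDistribMulAction H M] {X Y V : Subgroup M}

theorem mem_nrm_of [Finite M] {g : H} (h : ∀ m ∈ X, g • m ∈ X) : g ∈ nrm H X := by
  rw [mem_nrm]
  intro m
  refine ⟨fun hm => ?_, h m⟩
  have hinj : Function.Injective (fun w : X => (⟨g • (w : M), h w w.2⟩ : X)) := fun a b hab =>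
    Subtype.ext (smul_left_cancel g (congrArg Subtype.val hab))
  obtain ⟨w, hw⟩ := Finite.surjective_of_injective hinj ⟨g • m, hm⟩
  have h1 : g • (w : M) = g • m := congrArg Subtype.val hw
  rw [← smul_left_cancel g h1]
  exact w.2

theorem smul_mem {g : H} (h : g ∈ nrm H X) {m : M} (hm : m ∈ X) : g • m ∈ X := (h m).2 hm

theorem fxr_le_nrm [Finite M] : fxr H X ≤ nrm H X := fun g hg => mem_nrm_of fun m hm => by
  rw [mem_fxr.1 hg m hm]; exact hm

/-- `nrm` normalises `fxr` -/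
theorem conj_fxr {g k : H} (hg : g ∈ nrm H X) (hk : k ∈ fxr H X) : g * k * g⁻¹ ∈ fxr H X := by
  rw [mem_fxr] at hk ⊢
  intro m hm
  have h1 : g⁻¹ • m ∈ X := smul_mem (inv_mem hg) hm
  rw [mul_smul, mul_smul, hk _ h1, smul_inv_smul]

theorem nrm_le_normalizer : nrm H X ≤ normalizer (fxr H X : Set H) := by
  intro g hg
  rw [mem_normalizer_iff]
  intro k
  refine ⟨conj_fxr hg, fun h => ?_⟩
  have h1 := conj_fxr (inv_mem hg) h
  have e : g⁻¹ * (g * k * g⁻¹) * g⁻¹⁻¹ = k := by group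
  rwa [e] at h1

theorem fxr_anti (h : X ≤ Y) : fxr H Y ≤ fxr H X := fun _ hg m hm => hg m (h hm)

theorem sup_fxr {g : H} (hX : g ∈ fxr H X) (hY : g ∈ fxr H Y) : g ∈ fxr H (X ⊔ Y) := by
  rw [mem_fxr]
  have h : X ⊔ Y ≤ cv M ({g} : Set H) := by
    refine sup_le (fun m hm x hx => ?_) (fun m hm x hx => ?_)
    · rw [Set.mem_singleton_iff] at hx
      rw [hx]; exact hX m hm
    · rw [Set.mem_singleton_iff] at hx
      rw [hx]; exact hY m hm
  exact fun m hm => h hm g rfl

theorem comm_of_sq (sq : ∀ m : M, m * m = 1) (a b : M) : a * b = b * a := by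
  have h1 : ∀ z : M, z⁻¹ = z := fun z => inv_eq_of_mul_eq_one_right (sq z)
  calc a * b = (a * b)⁻¹ := (h1 _).symm
    _ = b⁻¹ * a⁻¹ := mul_inv_rev _ _
    _ = b * a := by rw [h1, h1]

theorem inv_of_sq (sq : ∀ m : M, m * m = 1) (z : M) : z⁻¹ = z := inv_eq_of_mul_eq_one_right (sq z)

/-- elements of `XY` -/
theorem mem_sup (sq : ∀ m : M, m * m = 1) {w : M} : w ∈ X ⊔ Y ↔ ∃ x ∈ X, ∃ y ∈ Y, x * y = w := by
  have hX : X ≤ normalizer (Y : Set M) := by
    intro x _
    rw [mem_normalizer_iff]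
    intro m
    rw [comm_of_sq sq x m, mul_inv_cancel_right]
  rw [← SetLike.mem_coe, coe_mul_of_left_le_normalizer_right X Y hX]
  exact Iff.rfl

/-- uniqueness -/
theorem eq_of_mul (h : X ⊓ Y = ⊥) {x x' y y' : M} (hx : x ∈ X) (hx' : x' ∈ X) (hy : y ∈ Y)
    (hy' : y' ∈ Y) (he : x * y = x' * y') : x = x' ∧ y = y' := by
  have h1 : x'⁻¹ * x = y' * y⁻¹ := by
    rw [inv_mul_eq_iff_eq_mul, ← mul_assoc, ← he, mul_inv_cancel_right]
  have h2 : x'⁻¹ * x ∈ X ⊓ Y := ⟨X.mul_mem (X.inv_mem hx') hx, by rw [h1]; exact Y.mul_mem hy' (Y.inv_mem hy)⟩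
  rw [h, mem_bot] at h2
  refine ⟨(inv_mul_eq_one.1 h2).symm, ?_⟩
  rw [h1] at h2
  exact (mul_inv_eq_one.1 h2).symm

end nrm

section par

variable {H : Type u} [Group H] [Finite H] {T P D : Subgroup H}

/-- a normal subgroup of a minimal parabolic -/
theorem alt (hT : IsPGroup 2 T) (hs : ¬ 2 ∣ T.index) (hP : IsMinPar T P) (hD : D ≤ P)
    (hn : P ≤ normalizer (D : Set H)) : D ⊔ T = P ∨ P ≤ normalizer ((T ⊓ D : Subgroup H) : Set H) := by
  by_cases h1 : D ⊔ T = P
  · exact Or.inl h1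
  right
  obtain ⟨N, hN, hN2⟩ := hP.exists_max
  have h2 : D ⊔ T ≤ N := hN2 _ le_sup_right (lt_of_le_of_ne (sup_le hD hP.le) h1)
  have h3 := MinSimple.Basic.frattini hP.le hT (fun h => hs (h.trans (relIndex_dvd_index_of_le hP.le))) hn
  by_contra h4
  have h5 : P ⊓ normalizer ((T ⊓ D : Subgroup H) : Set H) ≤ N := by
    refine hN2 _ (le_inf hP.le ?_) (lt_of_le_of_ne inf_le_left fun h => h4 (inf_eq_left.1 h))
    intro t ht
    rw [mem_normalizer_iff]
    have h6 := hn (hP.le ht)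
    rw [mem_normalizer_iff] at h6
    intro x
    constructor
    · rintro ⟨hx1, hx2⟩
      exact ⟨T.mul_mem (T.mul_mem ht hx1) (T.inv_mem ht), (h6 x).1 hx2⟩
    · rintro ⟨hx1, hx2⟩
      refine ⟨?_, (h6 x).2 hx2⟩
      have := T.mul_mem (T.mul_mem (T.inv_mem ht) hx1) ht
      have e : t⁻¹ * (t * x * t⁻¹) * t = x := by group
      rwa [e] at this
  exact absurd (h3.trans (sup_le (le_sup_left.trans h2) h5)) (not_le_of_gt hN)

/-- a normal subgroup of a minimal parabolic which contains `T` -/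
theorem eq_of_le (hT : IsPGroup 2 T) (hs : ¬ 2 ∣ T.index) (hP : IsMinPar T P) (hD : D ≤ P)
    (hn : P ≤ normalizer (D : Set H)) (hTD : T ≤ D) : D = P := by
  rcases alt hT hs hP hD hn with h | h
  · rwa [sup_eq_left.2 hTD] at h
  · rw [inf_eq_left.2 hTD] at h
    exact absurd h hP.not_le

end par

section sXY

variable {H : Type u} [Group H] [Finite H] {M : Type v} [Group M] [MulDistribMulAction H M] {T : Subgroup H}
  {X Y : Subgroup M}

/-- **(2) (c)** : `Stab(mv) = Stab(m) ∩ Stab(v)`, from `nB` -/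
theorem sXY_of (two : IsPGroup 2 T) (syl : ¬ 2 ∣ T.index) (XY : X ⊓ Y = ⊥)
    (nX : normalizer (T : Set H) ≤ nrm H X) (nY : normalizer (T : Set H) ≤ nrm H Y) (tY : T ≤ fxr H Y)
    (nB : normalizer ((T ⊓ fxr H X : Subgroup H) : Set H) ≤ nrm H Y)
    (uni : ∀ P : Subgroup H, IsMinPar T P → ¬ P ≤ nrm H X → P ≤ fxr H Y) :
    ∀ m ∈ X, ∀ v ∈ Y, m ≠ 1 → v ≠ 1 → (∀ t ∈ T, t • m = m) → ∀ g : H, g • (m * v) = m * v →
      g • m = m ∧ g • v = v := by
  intro m hm v hv hm1 _ htm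
  have key : ∀ g : H, g • (m * v) = m * v → g ∈ nrm H X → g ∈ nrm H Y → g • m = m ∧ g • v = v := by
    intro g hg h1 h2
    rw [smul_mul'] at hg
    exact eq_of_mul XY (smul_mem h1 hm) hm (smul_mem h2 hv) hv hg
  have hcancel : ∀ g : H, g • (m * v) = m * v → g • v = v → g • m = m := by
    intro g hg hgv
    rw [smul_mul', hgv] at hg
    exact mul_right_cancel hg
  set S : Subgroup H := MulAction.stabilizer H (m * v) with hS
  have hTS : T ≤ S := fun t ht => MulAction.mem_stabilizer_iff.2 (by rw [smul_mul', htm t ht, mem_fxr.1 (tY ht) v hv])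
  have hmain : S ≤ MulAction.stabilizer H v := by
    refine le_of_forall hTS ?_ ?_
    · rintro g ⟨hg1, hg2⟩
      exact MulAction.mem_stabilizer_iff.2 (key g hg1 (nX hg2) (nY hg2)).2
    · intro P hP hPS
      by_cases hPX : P ≤ nrm H X
      · set D : Subgroup H := P ⊓ fxr H X with hD
        have hDn : P ≤ normalizer (D : Set H) := by
          intro g hg
          have h1 := nrm_le_normalizer (hPX hg)
          rw [mem_normalizer_iff] at h1 ⊢
          intro k
          constructor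
          · rintro ⟨hk1, hk2⟩
            exact ⟨P.mul_mem (P.mul_mem hg hk1) (P.inv_mem hg), (h1 k).1 hk2⟩
          · rintro ⟨hk1, hk2⟩
            refine ⟨?_, (h1 k).2 hk2⟩
            have := P.mul_mem (P.mul_mem (P.inv_mem hg) hk1) hg
            have e : g⁻¹ * (g * k * g⁻¹) * g = k := by group
            rwa [e] at this
        rcases alt two syl hP inf_le_left hDn with h1 | h1
        · rw [← h1]
          refine sup_le (fun d hd => ?_) fun t ht => MulAction.mem_stabilizer_iff.2 (mem_fxr.1 (tY ht) v hv)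
          rw [MulAction.mem_stabilizer_iff]
          have h2 : d • (m * v) = m * v := hPS hd.1
          rw [smul_mul', mem_fxr.1 hd.2 m hm] at h2
          exact mul_left_cancel h2
        · have h2 : T ⊓ D = T ⊓ fxr H X := by
            rw [hD, ← inf_assoc, inf_eq_left.2 hP.le]
          rw [h2] at h1
          intro g hg
          exact MulAction.mem_stabilizer_iff.2 (key g (hPS hg) (hPX hg) (nB (h1 hg))).2
      · exact fun g hg => MulAction.mem_stabilizer_iff.2 (mem_fxr.1 (uni P hP hPX hg) v hv)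
  intro g hg
  have h1 : g • v = v := hmain hg
  exact ⟨hcancel g hg h1, h1⟩

end sXY

end Cfsg.Agent.Omega.KL.Q.Tools
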